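import Groth.Agent.TameKey.Local
import Groth.Agent.TameLib.Laws
import Mathlib.RingTheory.Ideal.MinimalPrime.Localization
import Mathlib.RingTheory.Ideal.Height

/-! The key lemma: the orders of the tame symbols at the height one primes add up to zero. -/

set_option linter.unusedSectionVars false
set_option linter.style.haveILetI false

namespace Groth.Agent.TameKey

open IsLocalRing CycAlg CycLib.Periodic

universe u

instance isLocalHom_loc {R D : Type u} [CommRing R] [IsLocalRing R] [CommRing D] [Algebra R D] [Module.Finite R D]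
    (r : MaximalSpectrum D) : IsLocalHom (algebraMap R (Localization.AtPrime r.asIdeal)) :=
  TameLib.isLocalHom_atPrime r.asIdeal

instance finite_res {R D : Type u} [CommRing R] [IsLocalRing R] [CommRing D] [Algebra R D] [Module.Finite R D]
    (r : MaximalSpectrum D) : Module.Finite (ResidueField R) (ResidueField (Localization.AtPrime r.asIdeal)) :=
  TameLib.finite_residueField r

variable {A : Type u} [CommRing A]

theorem tower_res (q : Ideal A) [q.IsPrime] {D : Type u} [CommRing D] [Algebra (Localization.AtPrime q) D]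
    [Algebra A D] [IsScalarTower A (Localization.AtPrime q) D] [Module.Finite (Localization.AtPrime q) D]
    (r : MaximalSpectrum D) :
    IsScalarTower A q.ResidueField (ResidueField (Localization.AtPrime r.asIdeal)) :=
  IsScalarTower.of_algebraMap_eq fun x => by
    show residue _ (algebraMap A (Localization.AtPrime r.asIdeal) x) =
      residue _ (algebraMap (Localization.AtPrime q) (Localization.AtPrime r.asIdeal)
        (algebraMap A (Localization.AtPrime q) x))
    rw [IsScalarTower.algebraMap_apply A D (Localization.AtPrime r.asIdeal),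
      IsScalarTower.algebraMap_apply (Localization.AtPrime q) D (Localization.AtPrime r.asIdeal),
      ← IsScalarTower.algebraMap_apply A (Localization.AtPrime q) D]

/-- A computation of the symbol at `q` inside the localisation away from `a b`. -/
structure Datum (a b : A) (q : Ideal A) [q.IsPrime] where
  D : Type u
  [ring : CommRing D]
  [algR : Algebra (Localization.AtPrime q) D]
  [algA : Algebra A D]
  [tower : IsScalarTower A (Localization.AtPrime q) D]
  [fin : Module.Finite (Localization.AtPrime q) D]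
  π : ∀ r : MaximalSpectrum D, Localization.AtPrime r.asIdeal
  u : ∀ r : MaximalSpectrum D, (Localization.AtPrime r.asIdeal)ˣ
  v : ∀ r : MaximalSpectrum D, (Localization.AtPrime r.asIdeal)ˣ
  e : MaximalSpectrum D → ℕ
  f : MaximalSpectrum D → ℕ
  hπ : ∀ r, π r ∈ nonZeroDivisors (Localization.AtPrime r.asIdeal)
  ha : ∀ r, algebraMap A (Localization.AtPrime r.asIdeal) a = (u r : Localization.AtPrime r.asIdeal) * π r ^ e r
  hb : ∀ r, algebraMap A (Localization.AtPrime r.asIdeal) b = (v r : Localization.AtPrime r.asIdeal) * π r ^ f r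
  φ : D →ₐ[Localization.AtPrime q] Localization.Away (algebraMap A (Localization.AtPrime q) (a * b))
  hφ : Function.Injective φ
  k : ℕ
  hk : ∀ d, ∃ α : Localization.AtPrime q, algebraMap A _ ((a * b) ^ k) * φ d = algebraMap (Localization.AtPrime q) _ α
  hval : CycAlg.tameSymbol (Localization.AtPrime q) (algebraMap A _ a) (algebraMap A _ b) =
    ∏ᶠ r, Algebra.norm q.ResidueField (TameLib.sval (π r) (u r) (v r) (e r) (f r))

attribute [instance] Datum.ring Datum.algR Datum.algA Datum.tower Datum.fin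

variable [IsNoetherianRing A]

theorem map_mem_nonZeroDivisors (q : Ideal A) [q.IsPrime] {x : A} (hx : x ∈ nonZeroDivisors A) :
    algebraMap A (Localization.AtPrime q) x ∈ nonZeroDivisors (Localization.AtPrime q) :=
  IsLocalization.map_nonZeroDivisors_le q.primeCompl _ ⟨x, hx, rfl⟩

theorem nonempty_datum (q : Ideal A) [q.IsPrime] [Ring.KrullDimLE 1 (Localization.AtPrime q)] {a b : A}
    (ha : a ∈ nonZeroDivisors A) (hb : b ∈ nonZeroDivisors A) (hq : a * b ∈ q) : Nonempty (Datum a b q) := by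
  let R := Localization.AtPrime q
  haveI : IsNoetherianRing R := IsLocalization.isNoetherianRing q.primeCompl _ inferInstance
  have ha' := map_mem_nonZeroDivisors q ha
  have hb' := map_mem_nonZeroDivisors q hb
  obtain ⟨D, i1, i2, i3, v, hD, hv⟩ := TameLib.exists_val ha' hb'
  obtain ⟨φ, hφ, -⟩ := TameLib.exists_embedding hD (g := algebraMap A R (a * b))
    ((IsLocalization.AtPrime.to_map_mem_maximal_iff R q _).mpr hq) (map_mem_nonZeroDivisors q (mul_mem ha hb))
  let algA : Algebra A D := ((algebraMap R D).comp (algebraMap A R)).toAlgebra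
  haveI : IsScalarTower A R D := IsScalarTower.of_algebraMap_eq fun _ => rfl
  obtain ⟨-, -, k, hk⟩ := hD.fin
  have hts := TameLib.tameSymbol_eq ha' hb' hD.fin hv
  obtain ⟨x, hx, rfl⟩ := hv
  choose π u v e f hπ h1 h2 h3 using hx
  refine ⟨{ D := D, π := π, u := u, v := v, e := e, f := f, hπ := hπ, ha := fun r => ?_, hb := fun r => ?_, φ := φ,
            hφ := hφ, k := k, hk := fun d => ?_, hval := ?_ }⟩
  · rw [IsScalarTower.algebraMap_apply A D (Localization.AtPrime r.asIdeal), IsScalarTower.algebraMap_apply A R D,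
      ← IsScalarTower.algebraMap_apply R D (Localization.AtPrime r.asIdeal)]
    exact h1 r
  · rw [IsScalarTower.algebraMap_apply A D (Localization.AtPrime r.asIdeal), IsScalarTower.algebraMap_apply A R D,
      ← IsScalarTower.algebraMap_apply R D (Localization.AtPrime r.asIdeal)]
    exact h2 r
  · obtain ⟨α, hα⟩ := hk (algebraMap A R ((a * b) ^ k)) (by
      rw [map_pow]
      exact Ideal.pow_mem_pow ((IsLocalization.AtPrime.to_map_mem_maximal_iff R q _).mpr hq) k) d
    refine ⟨α, ?_⟩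
    rw [← φ.commutes α, hα, map_smul, Algebra.smul_def, ← IsScalarTower.algebraMap_apply A R]
  · rw [hts]
    exact finprod_congr fun r => by rw [h3 r]; rfl

variable [IsLocalRing A]

theorem ordFrac_prod {ι : Type*} (q : Ideal A) [q.IsPrime] [Ring.KrullDimLE 1 (A ⧸ q)] (s : Finset ι)
    (g : ι → q.ResidueField) (hg : ∀ i ∈ s, g i ≠ 0) :
    CycAlg.ordFrac (A ⧸ q) q.ResidueField (∏ i ∈ s, g i) = ∑ i ∈ s, CycAlg.ordFrac (A ⧸ q) q.ResidueField (g i) := by
  classical
  induction s using Finset.induction_on with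
  | empty => simp [IntThLib.ordFrac_one]
  | insert i s hi ih =>
    simp only [Finset.mem_insert, forall_eq_or_imp] at hg
    rw [Finset.prod_insert hi, Finset.sum_insert hi,
      IntThLib.ordFrac_mul hg.1 (Finset.prod_ne_zero_iff.mpr hg.2), ih hg.2]

theorem dim_quot (hA : ringKrullDim A = 2) {q : Ideal A} [q.IsPrime] (hq : q.height = 1) :
    Ring.KrullDimLE 1 (A ⧸ q) ∧ q ≠ maximalIdeal A ∧ Ring.KrullDimLE 1 (Localization.AtPrime q) := by
  have h2 : (maximalIdeal A).height = 2 :=
    WithBot.coe_injective ((IsLocalRing.maximalIdeal_height_eq_ringKrullDim (R := A)).trans hA)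
  have hne : q ≠ maximalIdeal A := fun h => by
    rw [h, h2] at hq
    exact absurd hq (by decide)
  refine ⟨?_, hne, ?_⟩
  · refine Ring.krullDimLE_one_iff_of_noZeroDivisors.mpr fun P hP0 hP => ?_
    haveI := hP
    let p := P.comap (Ideal.Quotient.mk q)
    have hqp : q ≤ p := fun x hx => by
      rw [Ideal.mem_comap, Ideal.Quotient.eq_zero_iff_mem.mpr hx]
      exact P.zero_mem
    have hne' : q ≠ p := fun h => hP0 (by
      rw [← Ideal.map_comap_of_surjective _ Ideal.Quotient.mk_surjective P]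
      show p.map _ = ⊥
      rw [← h, Ideal.map_quotient_self])
    have hpm : p = maximalIdeal A := by
      by_contra hpm
      have h3 : q < p := lt_of_le_of_ne hqp hne'
      have h4 : p < maximalIdeal A := lt_of_le_of_ne (le_maximalIdeal (Ideal.IsPrime.ne_top inferInstance)) hpm
      have hfq : q.FiniteHeight := ⟨Or.inr (by rw [hq]; exact ENat.one_ne_top)⟩
      have hp2 : p.height ≤ 2 := h2 ▸ Ideal.height_mono h4.le
      have hfp : p.FiniteHeight := ⟨Or.inr (ne_top_of_le_ne_top (by decide) hp2)⟩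
      have h5 := Ideal.height_strict_mono_of_isPrime_of_isPrime h3
      have h6 := Ideal.height_strict_mono_of_isPrime_of_isPrime h4
      rw [hq] at h5
      rw [h2] at h6
      generalize p.height = c at h5 h6
      obtain ⟨c, rfl⟩ := ENat.ne_top_iff_exists.mp h6.ne_top
      norm_cast at h5 h6
      omega
    have hmax : (p.map (Ideal.Quotient.mk q)).IsMaximal := by
      refine (Ideal.map_eq_top_or_isMaximal_of_surjective _ Ideal.Quotient.mk_surjective
        (hpm ▸ maximalIdeal.isMaximal A)).resolve_left fun h => hP.ne_top ?_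
      rw [← Ideal.map_comap_of_surjective _ Ideal.Quotient.mk_surjective P]
      exact h
    rwa [Ideal.map_comap_of_surjective _ Ideal.Quotient.mk_surjective] at hmax
  · rw [Ring.KrullDimLE, Order.krullDimLE_iff]
    exact (IsLocalization.AtPrime.ringKrullDim_eq_height q (Localization.AtPrime q)).trans_le
      (by rw [hq]; exact le_refl _)

theorem height_eq_one (hA : ringKrullDim A = 2) {t : A} (ht : t ∈ nonZeroDivisors A) {p : Ideal A} [p.IsPrime]
    (htp : t ∈ p) (hne : p ≠ maximalIdeal A) : p.height = 1 := by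
  have h2 : (maximalIdeal A).height = 2 :=
    WithBot.coe_injective ((IsLocalRing.maximalIdeal_height_eq_ringKrullDim (R := A)).trans hA)
  have h1 : p.height ≠ 0 := fun h => by
    rw [Ideal.height_eq_zero_iff] at h
    exact Set.disjoint_left.mp (Ideal.disjoint_nonZeroDivisors_of_mem_minimalPrimes h) htp ht
  have hlt : p < maximalIdeal A := lt_of_le_of_ne (le_maximalIdeal (Ideal.IsPrime.ne_top inferInstance)) hne
  have hle : p.height ≤ 2 := h2 ▸ Ideal.height_mono hlt.le
  have hfp : p.FiniteHeight := ⟨Or.inr (ne_top_of_le_ne_top (by decide) hle)⟩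
  have h3 := Ideal.height_strict_mono_of_isPrime_of_isPrime hlt
  rw [h2] at h3
  generalize p.height = c at h1 h3
  obtain ⟨c, rfl⟩ := ENat.ne_top_iff_exists.mp h3.ne_top
  norm_cast at h1 h3 ⊢
  omega

theorem sum_herbrand_eq_zero {M : Type u} [AddCommGroup M] [Module A M] [Module.Finite A M] {ι : Type u} [Fintype ι]
    {V : ι → Type u} [∀ i, AddCommGroup (V i)] [∀ i, Module A (V i)] (Φ : M →ₗ[A] ∀ i, V i) (a b : A)
    (hMt : ∀ z : M, (a * b) • z = 0) (hVt : ∀ (i) (y : V i), (a * b) • y = 0) {κ : Type*} (P : κ → Ideal A)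
    (hker : ∀ (q : κ) (x : M), Φ x = 0 → ∃ s ∉ P q, s • x = 0)
    (hcok : ∀ (q : κ) (y : ∀ i, V i), ∃ (x : M) (s : A), s ∉ P q ∧ Φ x = s • y)
    (hlen : ∀ (W : Type u) [AddCommGroup W] [Module A W] [Module.Finite A W], (∀ w : W, (a * b) • w = 0) →
      (∀ (q : κ) (w : W), ∃ s ∉ P q, s • w = 0) → Module.length A W < ⊤)
    (hMfin : FinCoh A (a • LinearMap.id : M →ₗ[A] M) (b • LinearMap.id))
    (hM0 : herbrand A (a • LinearMap.id : M →ₗ[A] M) (b • LinearMap.id) = 0)
    (hN : ∀ i, FinCoh A (a • LinearMap.id : LinearMap.range (LinearMap.proj i ∘ₗ Φ) →ₗ[A] _) (b • LinearMap.id)) :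
    ∑ i, herbrand A (a • LinearMap.id : LinearMap.range (LinearMap.proj i ∘ₗ Φ) →ₗ[A] _) (b • LinearMap.id) = 0 := by
  let N : ∀ i, Submodule A (V i) := fun i => LinearMap.range (LinearMap.proj i ∘ₗ Φ)
  let Ψ : M →ₗ[A] ∀ i, N i := LinearMap.pi fun i => (LinearMap.proj i ∘ₗ Φ).rangeRestrict
  haveI : IsNoetherian A M := isNoetherian_of_isNoetherianRing_of_finite A M
  haveI : ∀ i, Module.Finite A (N i) := fun i => Module.Finite.range _
  haveI : Module.Finite A (LinearMap.ker Ψ) := Module.Finite.iff_fg.mpr (IsNoetherian.noetherian _)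
  have k1 : Module.length A (LinearMap.ker Ψ) < ⊤ := hlen _ (fun w => Subtype.ext (hMt w.1)) fun q w => by
    obtain ⟨s, hs, h⟩ := hker q w.1 (funext fun i => congrArg Subtype.val (congrFun (LinearMap.mem_ker.mp w.2) i))
    exact ⟨s, hs, Subtype.ext h⟩
  have c1 : Module.length A ((∀ i, N i) ⧸ LinearMap.range Ψ) < ⊤ := by
    refine hlen ((∀ i, N i) ⧸ LinearMap.range Ψ) (fun w => ?_) fun q w => ?_
    · obtain ⟨w, rfl⟩ := Submodule.mkQ_surjective _ w
      rw [← map_smul, show (a * b) • w = 0 from funext fun i => Subtype.ext (hVt i _), map_zero]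
    · obtain ⟨w, rfl⟩ := Submodule.mkQ_surjective _ w
      obtain ⟨x, s, hs, hx⟩ := hcok q (fun i => (w i).1)
      refine ⟨s, hs, ?_⟩
      rw [← map_smul, Submodule.mkQ_apply, Submodule.Quotient.mk_eq_zero]
      exact ⟨x, funext fun i => Subtype.ext (congrFun hx i)⟩
  obtain ⟨-, hpi⟩ := herbrand_pi (fun i => N i) (fun i => a • LinearMap.id) (fun i => b • LinearMap.id) hN
  have hperM : IsPeriodic (a • LinearMap.id : M →ₗ[A] M) (b • LinearMap.id) := by
    constructor <;> refine LinearMap.ext fun z => ?_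
    · show a • b • z = 0
      rw [smul_smul]; exact hMt z
    · show b • a • z = 0
      rw [smul_smul, mul_comm]; exact hMt z
  have hperN : IsPeriodic (LinearMap.pi fun i => (a • LinearMap.id : N i →ₗ[A] N i) ∘ₗ LinearMap.proj i)
      (LinearMap.pi fun i => (b • LinearMap.id : N i →ₗ[A] N i) ∘ₗ LinearMap.proj i) := by
    constructor <;> refine LinearMap.ext fun z => funext fun i => Subtype.ext ?_
    · show a • b • (z i).1 = 0
      rw [smul_smul]; exact hVt i _
    · show b • a • (z i).1 = 0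
      rw [smul_smul, mul_comm]; exact hVt i _
  obtain ⟨-, heq⟩ := eq_of_ker_coker hperM hperN (f := Ψ) (g := Ψ)
    (LinearMap.ext fun x => funext fun i => Subtype.ext (congrFun (map_smul Φ a x) i).symm)
    (LinearMap.ext fun x => funext fun i => Subtype.ext (congrFun (map_smul Φ b x) i).symm) hMfin k1 k1 c1 c1
  simp only [hM0, hpi, sub_self, sub_zero] at heq
  exact heq.symm

set_option maxHeartbeats 2000000 in
/-- The sum over the height one primes through `a b` vanishes. -/
theorem sum_eq_zero (hA : ringKrullDim A = 2) {a b : A} (ha : a ∈ nonZeroDivisors A) (hb : b ∈ nonZeroDivisors A)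
    (Q : Finset (PrimeSpectrum A)) (hQ : ∀ q, q ∈ Q ↔ q.asIdeal.height = 1 ∧ a * b ∈ q.asIdeal) :
    ∑ q ∈ Q, CycAlg.ordFrac (A ⧸ q.asIdeal) q.asIdeal.ResidueField
      (CycAlg.tameSymbol (Localization.AtPrime q.asIdeal) (algebraMap A _ a) (algebraMap A _ b)) = 0 := by
  classical
  let t := a * b
  have ht : t ∈ nonZeroDivisors A := mul_mem ha hb
  haveI hd1 : ∀ q : Q, Ring.KrullDimLE 1 (A ⧸ q.1.asIdeal) := fun q => (dim_quot hA ((hQ q.1).mp q.2).1).1
  haveI hd2 : ∀ q : Q, Ring.KrullDimLE 1 (Localization.AtPrime q.1.asIdeal) := fun q =>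
    (dim_quot hA ((hQ q.1).mp q.2).1).2.2
  have hQle : ∀ q q' : Q, q'.1.asIdeal ≤ q.1.asIdeal → q' = q := fun q q' h => by
    by_contra hne
    have hlt : q'.1.asIdeal < q.1.asIdeal :=
      lt_of_le_of_ne h fun e => hne (Subtype.ext (PrimeSpectrum.ext e))
    haveI : q'.1.asIdeal.FiniteHeight := ⟨Or.inr (by rw [((hQ q'.1).mp q'.2).1]; exact ENat.one_ne_top)⟩
    haveI : q.1.asIdeal.FiniteHeight := ⟨Or.inr (by rw [((hQ q.1).mp q.2).1]; exact ENat.one_ne_top)⟩
    have h1 := Ideal.height_strict_mono_of_isPrime_of_isPrime hlt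
    rw [((hQ q'.1).mp q'.2).1, ((hQ q.1).mp q.2).1] at h1
    exact lt_irrefl _ h1
  have havoid : ∀ (q q' : Q), q' ≠ q → ∀ N, ∃ s ∈ q'.1.asIdeal ^ N, s ∉ q.1.asIdeal := fun q q' h N =>
    SetLike.not_le_iff_exists.mp fun hle => h (hQle q q' (q.1.2.le_of_pow_le hle))
  let dat : ∀ q : Q, Datum a b q.1.asIdeal := fun q =>
    (nonempty_datum q.1.asIdeal ha hb ((hQ q.1).mp q.2).2).some
  haveI : ∀ q : Q, IsNoetherianRing (dat q).D := fun q =>
    IsNoetherianRing.of_finite (Localization.AtPrime q.1.asIdeal) (dat q).D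
  haveI : ∀ q : Q, Ring.KrullDimLE 1 (dat q).D := fun q =>
    TameLib.krullDimLE_one (A := Localization.AtPrime q.1.asIdeal)
  haveI : ∀ q : Q, Finite (MaximalSpectrum (dat q).D) := fun q =>
    TameLib.finite_maximalSpectrum (Localization.AtPrime q.1.asIdeal) (dat q).D
  letI : ∀ q : Q, Fintype (MaximalSpectrum (dat q).D) := fun q => Fintype.ofFinite _
  let I := Σ q : Q, MaximalSpectrum (dat q).D
  let S : I → Type u := fun i => Localization.AtPrime i.2.asIdeal
  haveI : ∀ i : I, IsNoetherianRing (S i) := fun i => IsLocalization.isNoetherianRing i.2.asIdeal.primeCompl _ inferInstance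
  haveI : ∀ i : I, Ring.KrullDimLE 1 (S i) := fun i => TameLib.krullDimLE_atPrime i.2.asIdeal
  haveI : ∀ i : I, IsScalarTower A i.1.1.asIdeal.ResidueField (ResidueField (S i)) := fun i => tower_res _ i.2
  let J : ∀ i : I, Ideal (S i) := fun i =>
    Ideal.span {(dat i.1).π i.2 ^ ((dat i.1).e i.2 + (dat i.1).f i.2)}
  have hJ : ∀ i : I, J i = Ideal.span {algebraMap A (S i) t} := fun i => by
    rw [map_mul, (dat i.1).ha i.2, (dat i.1).hb i.2]
    refine (Ideal.span_singleton_mul_left_unit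
      (((dat i.1).u i.2).isUnit.mul ((dat i.1).v i.2).isUnit) _).symm.trans ?_
    congr 2
    rw [pow_add]; ring
  have hJt : ∀ (i : I) (y : S i ⧸ J i), t • y = 0 := fun i y => by
    obtain ⟨y, rfl⟩ := Ideal.Quotient.mk_surjective y
    show Ideal.Quotient.mk (J i) (t • y) = 0
    rw [Ideal.Quotient.eq_zero_iff_mem, hJ i, Algebra.smul_def]
    exact Ideal.mul_mem_right _ _ (Ideal.mem_span_singleton_self _)
  -- the lattice
  let At := Localization.Away t
  have htu : IsUnit (algebraMap A At t) := IsLocalization.Away.algebraMap_isUnit t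
  let K : Q → Type u := fun q => Localization.Away (algebraMap A (Localization.AtPrime q.1.asIdeal) t)
  have htK : ∀ q : Q, IsUnit (algebraMap A (K q) t) := fun q => by
    rw [IsScalarTower.algebraMap_apply A (Localization.AtPrime q.1.asIdeal) (K q)]
    exact IsLocalization.Away.algebraMap_isUnit _
  let j : ∀ q : Q, At →ₐ[A] K q := fun q =>
    { IsLocalization.Away.lift t (htK q) with commutes' := fun x => IsLocalization.Away.lift_eq t (htK q) x }
  have hjker : ∀ (q : Q) (z : At), j q z = 0 → ∃ s ∉ q.1.asIdeal, s • z = 0 := fun q z hz => by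
    obtain ⟨k, α, hα⟩ := IsLocalization.Away.surj t z
    have h1 := congrArg (j q) hα
    rw [map_mul, hz, zero_mul, AlgHom.commutes,
      IsScalarTower.algebraMap_apply A (Localization.AtPrime q.1.asIdeal) (K q), eq_comm,
      IsLocalization.map_eq_zero_iff (Submonoid.powers (algebraMap A (Localization.AtPrime q.1.asIdeal) t))] at h1
    obtain ⟨⟨_, i, rfl⟩, hi⟩ := h1
    dsimp only at hi
    rw [← map_pow, ← map_mul, IsLocalization.map_eq_zero_iff q.1.asIdeal.primeCompl] at hi
    obtain ⟨⟨s, hs⟩, hs'⟩ := hi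
    refine ⟨s, hs, (htu.pow (i + k)).mul_left_cancel ?_⟩
    rw [Algebra.smul_def, mul_zero, ← map_pow, ← mul_assoc, ← map_mul,
      show t ^ (i + k) * s = (s * t ^ i) * t ^ k by ring, map_mul, mul_assoc, mul_comm (algebraMap A At (t ^ k)) z,
      map_pow _ t k, hα, ← map_mul, mul_assoc, hs', map_zero]
  let n := Finset.univ.sup fun q : Q => (dat q).k
  have hn : ∀ (q : Q) d, ∃ α, algebraMap A (K q) (t ^ n) * (dat q).φ d = algebraMap (Localization.AtPrime q.1.asIdeal) (K q) α := fun q d => by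
    obtain ⟨α, hα⟩ := (dat q).hk d
    refine ⟨algebraMap A _ (t ^ (n - (dat q).k)) * α, ?_⟩
    rw [map_mul (algebraMap (Localization.AtPrime q.1.asIdeal) (K q)), ← IsScalarTower.algebraMap_apply,
      ← hα, ← mul_assoc, ← map_mul, ← pow_add, Nat.sub_add_cancel (Finset.le_sup (f := fun q : Q => (dat q).k) (Finset.mem_univ q))]
  let tinv : At := ↑((htu.pow n).unit⁻¹)
  have hφalg : ∀ (q : Q) (c : A), (dat q).φ (algebraMap A (dat q).D c) = algebraMap A (K q) c := fun q c => by
    rw [IsScalarTower.algebraMap_apply A (Localization.AtPrime q.1.asIdeal) (dat q).D, AlgHom.commutes,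
      ← IsScalarTower.algebraMap_apply]
  let φA : ∀ q : Q, (dat q).D →ₗ[A] K q := fun q => ((dat q).φ.toLinearMap).restrictScalars A
  let L : Submodule A At := LinearMap.range (LinearMap.toSpanSingleton A At tinv) ⊓
    ⨅ q : Q, (LinearMap.range (φA q)).comap (j q).toLinearMap
  haveI hLfin : Module.Finite A L := by
    have h : (LinearMap.range (LinearMap.toSpanSingleton A At tinv)).FG := by
      rw [← Submodule.map_top]
      exact Module.Finite.fg_top.map _
    haveI := Module.Finite.iff_fg.mpr h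
    haveI : IsNoetherian A (LinearMap.range (LinearMap.toSpanSingleton A At tinv)) :=
      isNoetherian_of_isNoetherianRing_of_finite A _
    exact Module.Finite.of_injective (Submodule.inclusion (inf_le_left)) (Submodule.inclusion_injective _)
  have hLj : ∀ (x : L) (q : Q), j q x.1 ∈ LinearMap.range (φA q) := fun x q =>
    (Submodule.mem_iInf _).mp x.2.2 q
  let γ : ∀ q : Q, L →ₗ[A] (dat q).D := fun q =>
    (LinearEquiv.ofInjective (φA q) (dat q).hφ).symm.toLinearMap ∘ₗ
      ((j q).toLinearMap ∘ₗ L.subtype).codRestrict _ (fun x => hLj x q)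
  have hγ : ∀ (q : Q) (x : L), φA q (γ q x) = j q x.1 := fun q x =>
    congrArg Subtype.val ((LinearEquiv.ofInjective (φA q) (dat q).hφ).apply_symm_apply _)
  have hL : ∀ (q : Q) (d : (dat q).D), ∃ x : L, ∃ s ∉ q.1.asIdeal, γ q x = s • d := fun q d => by
    obtain ⟨α, hα⟩ := hn q d
    obtain ⟨⟨α₀, s₀, hs₀⟩, hα₀⟩ := IsLocalization.surj q.1.asIdeal.primeCompl α
    have hN : ∀ q' : Q, ∃ N, ∀ r ∈ q'.1.asIdeal ^ N,
        algebraMap A (Localization.AtPrime q'.1.asIdeal) r ∈
          Ideal.span {algebraMap A (Localization.AtPrime q'.1.asIdeal) t ^ n} := fun q' => by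
      haveI : IsNoetherianRing (Localization.AtPrime q'.1.asIdeal) :=
        IsLocalization.isNoetherianRing q'.1.asIdeal.primeCompl _ inferInstance
      obtain ⟨N, hN⟩ := TameLib.exists_pow_maximalIdeal_le (pow_mem (map_mem_nonZeroDivisors q'.1.asIdeal ht) n)
      refine ⟨N, fun r hr => hN ?_⟩
      rw [← Localization.AtPrime.map_eq_maximalIdeal, ← Ideal.map_pow]
      exact Ideal.mem_map_of_mem _ hr
    choose N hN using hN
    choose s hs hs' using fun q' : {q' : Q // q' ≠ q} => havoid q q'.1 q'.2 (N q'.1)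
    let σ := ∏ q', s q'
    have hσ : σ ∉ q.1.asIdeal := fun h => by
      obtain ⟨i, -, hi⟩ := Ideal.IsPrime.prod_mem_iff.mp h
      exact hs' i hi
    have hjt : ∀ q' : Q, algebraMap A (K q') (t ^ n) * j q' tinv = 1 := fun q' => by
      rw [← (j q').commutes, ← map_mul, map_pow, IsUnit.mul_val_inv, map_one]
    let x₀ : At := algebraMap A At (σ * α₀) * tinv
    have hx₀ : j q x₀ = algebraMap A (K q) (σ * s₀) * (dat q).φ d := by
      refine ((htK q).pow n).mul_left_cancel ?_
      rw [← map_pow, map_mul (j q), AlgHom.commutes, mul_left_comm, hjt, mul_one, mul_left_comm, hα, map_mul (algebraMap A (K q)) σ α₀,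
        map_mul (algebraMap A (K q)) σ s₀, mul_assoc, IsScalarTower.algebraMap_apply A (Localization.AtPrime q.1.asIdeal) (K q) s₀,
        IsScalarTower.algebraMap_apply A (Localization.AtPrime q.1.asIdeal) (K q) α₀, ← map_mul, mul_comm _ α, hα₀]
    have hmem : x₀ ∈ L := by
      refine ⟨⟨σ * α₀, Algebra.smul_def _ _⟩, (Submodule.mem_iInf _).mpr fun q' => ?_⟩
      show j q' x₀ ∈ LinearMap.range (φA q')
      by_cases h : q' = q
      · subst h
        refine ⟨algebraMap A (dat q').D (σ * s₀) * d, ?_⟩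
        show (dat q').φ _ = _
        rw [hx₀, map_mul (dat q').φ, hφalg]
      · obtain ⟨c, hc⟩ := Finset.dvd_prod_of_mem s (Finset.mem_univ (⟨q', h⟩ : {q' : Q // q' ≠ q}))
        obtain ⟨w, hw⟩ := Ideal.mem_span_singleton'.mp (hN q' _ (hs ⟨q', h⟩))
        refine ⟨algebraMap (Localization.AtPrime q'.1.asIdeal) _ (w * algebraMap A _ (c * α₀)), ?_⟩
        show (dat q').φ _ = _
        refine ((htK q').pow n).mul_left_cancel ?_
        rw [AlgHom.commutes, map_mul (j q'), AlgHom.commutes, ← map_pow, mul_left_comm (algebraMap A (K q') (t ^ n)) _ (j q' tinv),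
          hjt, mul_one, map_mul (algebraMap (Localization.AtPrime q'.1.asIdeal) (K q')),
          ← IsScalarTower.algebraMap_apply A (Localization.AtPrime q'.1.asIdeal) (K q'),
          show σ = s ⟨q', h⟩ * c from hc, mul_assoc, map_mul (algebraMap A (K q')) (s ⟨q', h⟩) _,
          IsScalarTower.algebraMap_apply A (Localization.AtPrime q'.1.asIdeal) (K q') (s ⟨q', h⟩), ← hw,
          map_mul (algebraMap (Localization.AtPrime q'.1.asIdeal) (K q')),
          map_pow (algebraMap (Localization.AtPrime q'.1.asIdeal) (K q')),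
          ← IsScalarTower.algebraMap_apply, ← map_pow]
        ring
    refine ⟨⟨x₀, hmem⟩, σ * s₀, fun h => (q.1.2.mem_or_mem h).elim hσ hs₀, (dat q).hφ ?_⟩
    show φA q (γ q ⟨x₀, hmem⟩) = (dat q).φ _
    rw [hγ, Algebra.smul_def, map_mul (dat q).φ, hφalg]
    exact hx₀
  have hLinj : ∀ (c : A), IsUnit (algebraMap A At c) → ∀ x : L, c • x = 0 → x = 0 := fun c hc x h => by
    have h' := congrArg Subtype.val h
    rw [SetLike.val_smul, Algebra.smul_def, ZeroMemClass.coe_zero] at h'
    exact Subtype.ext (hc.mul_right_eq_zero.mp h')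
  have hab : IsUnit (algebraMap A At a) ∧ IsUnit (algebraMap A At b) :=
    IsUnit.mul_iff.mp (by rw [← map_mul]; exact htu)
  -- the module `L / t L`
  let tL : Submodule A L := LinearMap.range (LinearMap.lsmul A L t)
  let M := L ⧸ tL
  have hM : ∀ (c d : A), c * d = t → IsUnit (algebraMap A At c) →
      Module.length A (perH (c • LinearMap.id : M →ₗ[A] M) (d • LinearMap.id)) = 0 := fun c d hcd hc => by
    haveI : Subsingleton (perH (c • LinearMap.id : M →ₗ[A] M) (d • LinearMap.id)) := by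
      refine subsingleton_of_forall_eq 0 fun z => ?_
      obtain ⟨⟨z, hz⟩, rfl⟩ := cl_surjective _ _ z
      obtain ⟨z, rfl⟩ := Submodule.mkQ_surjective _ z
      obtain ⟨y, hy⟩ := (Submodule.Quotient.mk_eq_zero _).mp
        (show Submodule.Quotient.mk (c • z) = (0 : M) from hz)
      refine cl_eq_zero.mpr ⟨Submodule.mkQ _ y, ?_⟩
      show d • Submodule.mkQ tL y = Submodule.mkQ tL z
      rw [← map_smul]
      congr 1
      refine sub_eq_zero.mp (hLinj c hc _ ?_)
      rw [smul_sub, smul_smul, hcd, ← hy]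
      exact sub_self _
    exact Module.length_eq_zero
  -- the map to the local pieces
  let θ : ∀ i : I, (dat i.1).D →ₗ[A] S i ⧸ J i := fun i =>
    ((J i).mkQ.restrictScalars A) ∘ₗ (IsScalarTower.toAlgHom A (dat i.1).D (S i)).toLinearMap
  let Φ₀ : L →ₗ[A] ∀ i : I, S i ⧸ J i := LinearMap.pi fun i => θ i ∘ₗ γ i.1
  have hΦt : tL ≤ LinearMap.ker Φ₀ := by
    rintro _ ⟨x, rfl⟩
    refine funext fun i => ?_
    show θ i (γ i.1 (t • x)) = 0
    rw [map_smul, map_smul, hJt]
  let Φ : M →ₗ[A] ∀ i : I, S i ⧸ J i := tL.liftQ Φ₀ hΦt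
  let Np : ∀ i : I, Submodule A (S i ⧸ J i) := fun i => LinearMap.range (LinearMap.proj i ∘ₗ Φ)
  have hθspan : ∀ (i : I) (y : S i ⧸ J i), ∃ d, θ i d = y ∧
      ∀ r' : MaximalSpectrum (dat i.1).D, r' ≠ i.2 → θ ⟨i.1, r'⟩ d = 0 := fun i y => by
    obtain ⟨y, rfl⟩ := Ideal.Quotient.mk_surjective y
    obtain ⟨⟨α, σ⟩, hy⟩ := IsLocalization.surj i.2.asIdeal.primeCompl y
    have hex : ∀ r' : MaximalSpectrum (dat i.1).D, ∃ N, maximalIdeal (S ⟨i.1, r'⟩) ^ N ≤ J ⟨i.1, r'⟩ :=
      fun r' => TameLib.exists_pow_maximalIdeal_le (pow_mem ((dat i.1).hπ r') _)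
    choose M hM using hex
    let B : ℕ := Finset.univ.sup M + 1
    have hB : ∀ r' c, c ∈ r'.asIdeal ^ B → θ ⟨i.1, r'⟩ c = 0 := fun r' c hc => by
      refine Ideal.Quotient.eq_zero_iff_mem.mpr (hM r' (Ideal.pow_le_pow_right
        ((Finset.le_sup (Finset.mem_univ r')).trans (Nat.le_succ _) : M r' ≤ B) ?_))
      rw [← Localization.AtPrime.map_eq_maximalIdeal, ← Ideal.map_pow]
      exact Ideal.mem_map_of_mem _ hc
    have htop : Ideal.span {(σ : (dat i.1).D)} ⊔ i.2.asIdeal ^ B = ⊤ := by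
      by_contra hne
      obtain ⟨P, hP, hle⟩ := Ideal.exists_le_maximal _ hne
      have h := hP.isPrime.le_of_pow_le (le_sup_right.trans hle)
      exact σ.2 ((i.2.isMaximal.eq_of_le hP.ne_top h).ge (hle (Ideal.mem_sup_left (Ideal.mem_span_singleton_self _))))
    obtain ⟨_, hc, m, hm, hsum⟩ := Submodule.mem_sup.mp ((Ideal.eq_top_iff_one _).mp htop)
    obtain ⟨c, rfl⟩ := Ideal.mem_span_singleton'.mp hc
    have hcop : Pairwise fun r r' : MaximalSpectrum (dat i.1).D => IsCoprime (r.asIdeal ^ B) (r'.asIdeal ^ B) :=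
      fun r r' h => (Ideal.isCoprime_iff_sup_eq.2
        (r.isMaximal.coprime_of_ne r'.isMaximal fun e => h (MaximalSpectrum.ext e))).pow
    obtain ⟨d, hd⟩ := Ideal.exists_forall_sub_mem_ideal hcop fun r' => if r' = i.2 then α * c else 0
    refine ⟨d, ?_, fun r' h => hB r' d (by simpa [h] using hd r')⟩
    have h0 : θ i d = θ i (α * c) := sub_eq_zero.mp (by
      rw [← map_sub]
      exact hB i.2 _ (by simpa using hd i.2))
    have h1 : θ i m = 0 := hB i.2 m hm
    rw [h0]
    show Ideal.Quotient.mk (J i) (algebraMap (dat i.1).D (S i) (α * c)) = _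
    have h2 : Ideal.Quotient.mk (J i) (algebraMap (dat i.1).D (S i) m) = 0 := h1
    rw [map_mul, ← hy, mul_assoc, ← map_mul, mul_comm (σ : (dat i.1).D) c, eq_sub_of_add_eq hsum, map_sub, map_one,
      mul_sub, mul_one, map_sub, map_mul, h2, mul_zero, sub_zero]
  have hkill : ∀ (i : I), ∃ B, ∀ r ∈ i.1.1.asIdeal ^ B, ∀ y : S i ⧸ J i, r • y = 0 := fun i =>
    exists_pow_kill i.1.1.asIdeal ((dat i.1).hπ i.2)
  choose B hB using hkill
  have hreach : ∀ (q : Q) (y : ∀ r : MaximalSpectrum (dat q).D, S ⟨q, r⟩ ⧸ J ⟨q, r⟩),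
      ∃ (x : M) (s : A), s ∉ q.1.asIdeal ∧ (∀ r, Φ x ⟨q, r⟩ = s • y r) ∧ ∀ i : I, i.1 ≠ q → Φ x i = 0 := by
    intro q y
    choose d hd1 hd2 using fun r => hθspan ⟨q, r⟩ (y r)
    obtain ⟨x, s, hs, hx⟩ := hL q (∑ r, d r)
    choose σ hσ hσ' using fun i : {i : I // i.1 ≠ q} => havoid q i.1.1 i.2 (B i.1)
    let τ := ∏ i, σ i
    have hτ : τ ∉ q.1.asIdeal := fun h => by
      obtain ⟨i, -, hi⟩ := Ideal.IsPrime.prod_mem_iff.mp h
      exact hσ' i hi
    refine ⟨τ • Submodule.mkQ tL x, τ * s, fun h => (q.1.2.mem_or_mem h).elim hτ hs, fun r => ?_, fun i hi => ?_⟩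
    · rw [map_smul, Pi.smul_apply, mul_smul]
      congr 1
      show θ ⟨q, r⟩ (γ q x) = s • y r
      rw [hx, map_smul, map_sum, Finset.sum_eq_single r (fun r' _ h => hd2 r' r h.symm)
        (fun h => absurd (Finset.mem_univ _) h), hd1]
    · rw [map_smul, Pi.smul_apply]
      obtain ⟨c, hc⟩ := Finset.dvd_prod_of_mem σ (Finset.mem_univ (⟨i, hi⟩ : {i : I // i.1 ≠ q}))
      rw [show τ = c * σ ⟨i, hi⟩ by rw [mul_comm]; exact hc, mul_smul, hB i _ (hσ ⟨i, hi⟩), smul_zero]
  have hker : ∀ (q : Q) (x : M), Φ x = 0 → ∃ s ∉ q.1.asIdeal, s • x = 0 := fun q x hx => by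
    obtain ⟨x, rfl⟩ := Submodule.mkQ_surjective _ x
    let tD := algebraMap A (dat q).D t
    have hmem : γ q x ∈ Ideal.span {tD} := by
      let C : Ideal (dat q).D := Submodule.colon (Ideal.span {tD}) {γ q x}
      suffices C = ⊤ by
        have h1 : (1 : (dat q).D) ∈ C := by rw [this]; trivial
        simpa [C, Submodule.mem_colon_singleton] using h1
      by_contra hne
      obtain ⟨r', hle⟩ : ∃ r' : MaximalSpectrum (dat q).D, C ≤ r'.asIdeal := by
        obtain ⟨P, hP, hle⟩ := Ideal.exists_le_maximal C hne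
        exact ⟨⟨P, hP⟩, hle⟩
      have h1 : algebraMap (dat q).D (S ⟨q, r'⟩) (γ q x) ∈ J ⟨q, r'⟩ :=
        Ideal.Quotient.eq_zero_iff_mem.mp (congrFun hx ⟨q, r'⟩)
      rw [hJ, IsScalarTower.algebraMap_apply A (dat q).D (S ⟨q, r'⟩), ← Set.image_singleton,
        ← Ideal.map_span, IsLocalization.algebraMap_mem_map_algebraMap_iff r'.asIdeal.primeCompl] at h1
      obtain ⟨m, hm, hm'⟩ := h1
      exact hm (hle (Submodule.mem_colon_singleton.mpr (by rwa [smul_eq_mul])))
    obtain ⟨d, hd⟩ := Ideal.mem_span_singleton'.mp hmem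
    obtain ⟨x', s, hs, hx'⟩ := hL q d
    obtain ⟨σ, hσ, hz⟩ := hjker q (s • x - t • x').1 (by
      rw [← hγ q, show γ q (s • x - t • x') = 0 by
        rw [map_sub, map_smul, map_smul, hx', ← hd, Algebra.smul_def, Algebra.smul_def, Algebra.smul_def, sub_eq_zero]
        show _ = tD * _
        ring, map_zero])
    refine ⟨σ * s, fun h => (q.1.2.mem_or_mem h).elim hσ hs, ?_⟩
    rw [← map_smul, Submodule.mkQ_apply, Submodule.Quotient.mk_eq_zero, mul_smul]
    refine ⟨σ • x', ?_⟩
    have h : σ • (s • x - t • x') = 0 := Subtype.ext hz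
    rw [smul_sub, sub_eq_zero] at h
    rw [h, LinearMap.lsmul_apply, smul_comm]
  have hfinlen : ∀ (W : Type u) [AddCommGroup W] [Module A W] [Module.Finite A W], (∀ w : W, t • w = 0) →
      (∀ (q : Q) (w : W), ∃ s ∉ q.1.asIdeal, s • w = 0) → Module.length A W < ⊤ := fun W _ _ _ htW hW => by
    refine lt_top_iff_ne_top.mpr (CycLib.length_ne_top_of_support fun p hp => ?_)
    have htp : t ∈ p.asIdeal := Module.annihilator_le_of_mem_support hp (Module.mem_annihilator.mpr htW)
    by_contra hne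
    have h1 := height_eq_one hA ht htp fun h => hne (PrimeSpectrum.ext h)
    obtain ⟨w, hw⟩ := Module.mem_support_iff'.mp hp
    obtain ⟨s, hs, hs'⟩ := hW ⟨p, (hQ p).mpr ⟨h1, htp⟩⟩ w
    exact hw s hs hs'
  have hsplit : ∀ (q : Q) (y : ∀ i : I, S i ⧸ J i), ∃ (x : M) (s : A), s ∉ q.1.asIdeal ∧ Φ x = s • y := by
    intro q y
    obtain ⟨x, s, hs, hx1, hx2⟩ := hreach q (fun r => y ⟨q, r⟩)
    choose σ hσ hσ' using fun i : {i : I // i.1 ≠ q} => havoid q i.1.1 i.2 (B i.1)
    let τ := ∏ i, σ i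
    have hτ : τ ∉ q.1.asIdeal := fun h => by
      obtain ⟨i, -, hi⟩ := Ideal.IsPrime.prod_mem_iff.mp h
      exact hσ' i hi
    refine ⟨τ • x, τ * s, fun h => (q.1.2.mem_or_mem h).elim hτ hs, funext fun i => ?_⟩
    rw [map_smul, Pi.smul_apply, Pi.smul_apply, mul_smul]
    by_cases h : i.1 = q
    · obtain ⟨q', r⟩ := i
      dsimp only at h
      subst h
      rw [hx1]
    · obtain ⟨c, hc⟩ := Finset.dvd_prod_of_mem σ (Finset.mem_univ (⟨i, h⟩ : {i : I // i.1 ≠ q}))
      have hτk : ∀ y : S i ⧸ J i, τ • y = 0 := fun y => by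
        rw [show τ = c * σ ⟨i, h⟩ by rw [mul_comm]; exact hc, mul_smul, hB i _ (hσ ⟨i, h⟩), smul_zero]
      rw [hτk, hτk]
  -- the local values
  have hloc : ∀ i : I, FinCoh A (a • LinearMap.id : Np i →ₗ[A] Np i) (b • LinearMap.id) ∧
      herbrand A (a • LinearMap.id : Np i →ₗ[A] Np i) (b • LinearMap.id) =
        -ordN i.1.1.asIdeal (TameLib.sval ((dat i.1).π i.2) ((dat i.1).u i.2) ((dat i.1).v i.2) ((dat i.1).e i.2)
          ((dat i.1).f i.2)) := fun i => by
    refine herbrand_local i.1.1.asIdeal (Np i).subtype ((dat i.1).hπ i.2) (Submodule.injective_subtype _)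
      (fun w => ?_) rfl ((dat i.1).u i.2) ((dat i.1).v i.2) ((dat i.1).ha i.2) ((dat i.1).hb i.2)
    obtain ⟨x, s, hs, hx1, -⟩ := hreach i.1 (Function.update 0 i.2 w)
    refine ⟨s, hs, ?_⟩
    rw [Submodule.range_subtype]
    refine ⟨x, (hx1 i.2).trans ?_⟩
    rw [Function.update_self]
  have hMfin : FinCoh A (a • LinearMap.id : M →ₗ[A] M) (b • LinearMap.id) :=
    ⟨by rw [hM a b rfl hab.1]; simp, by rw [hM b a (mul_comm b a) hab.2]; simp⟩
  have hM0 : herbrand A (a • LinearMap.id : M →ₗ[A] M) (b • LinearMap.id) = 0 := by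
    unfold herbrand
    rw [hM a b rfl hab.1, hM b a (mul_comm b a) hab.2]
    simp
  have hMt : ∀ z : M, t • z = 0 := fun z => by
    obtain ⟨z, rfl⟩ := Submodule.mkQ_surjective _ z
    rw [← map_smul]
    exact (Submodule.Quotient.mk_eq_zero _).mpr ⟨z, rfl⟩
  have heq := sum_herbrand_eq_zero Φ a b hMt hJt (fun q : Q => q.1.asIdeal) hker hsplit hfinlen
    hMfin hM0 (fun i => (hloc i).1)
  rw [Finset.sum_congr rfl fun i _ => (hloc i).2, Finset.sum_neg_distrib, neg_eq_zero] at heq
  rw [← Finset.sum_coe_sort Q, ← heq, Fintype.sum_sigma]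
  refine Finset.sum_congr rfl fun q _ => ?_
  rw [(dat q).hval, finprod_eq_prod_of_fintype, ordFrac_prod q.1.asIdeal _ _ fun r _ =>
    Algebra.norm_ne_zero_iff.mpr (TameLib.sval_ne_zero _ _ _ _ _)]
  rfl

/-- The key lemma. -/
theorem key_lemma (hA : ringKrullDim A = 2) {a b : A} (ha : a ∈ nonZeroDivisors A) (hb : b ∈ nonZeroDivisors A) :
    ∑ᶠ (q : PrimeSpectrum A) (_ : q.asIdeal.height = 1), CycAlg.ordFrac (A ⧸ q.asIdeal) q.asIdeal.ResidueField
      (CycAlg.tameSymbol (Localization.AtPrime q.asIdeal) (algebraMap A _ a) (algebraMap A _ b)) = 0 := by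
  classical
  have hfin : {q : PrimeSpectrum A | q.asIdeal.height = 1 ∧ a * b ∈ q.asIdeal}.Finite := by
    refine ((Ideal.finite_minimalPrimes_of_isNoetherianRing A (Ideal.span {a * b})).preimage
      (f := PrimeSpectrum.asIdeal) (Function.Injective.injOn fun _ _ => PrimeSpectrum.ext)).subset fun q hq => ?_
    refine ⟨⟨q.2, (Ideal.span_singleton_le_iff_mem _).mpr hq.2⟩, fun p hp hle => ?_⟩
    haveI := hp.1
    have htp : a * b ∈ p := (Ideal.span_singleton_le_iff_mem _).mp hp.2
    have h1 := height_eq_one hA (mul_mem ha hb) htp fun h => (dim_quot hA hq.1).2.1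
      (le_antisymm (le_maximalIdeal q.2.ne_top) (h ▸ hle))
    by_contra hne
    haveI : p.FiniteHeight := ⟨Or.inr (by rw [h1]; exact ENat.one_ne_top)⟩
    haveI : q.asIdeal.FiniteHeight := ⟨Or.inr (by rw [hq.1]; exact ENat.one_ne_top)⟩
    have h2 := Ideal.height_strict_mono_of_isPrime_of_isPrime (lt_of_le_not_ge hle hne)
    rw [h1, hq.1] at h2
    exact lt_irrefl _ h2
  rw [finsum_cond_eq_sum_of_cond_iff _ (t := hfin.toFinset) ?_]
  · exact sum_eq_zero hA ha hb hfin.toFinset fun q => hfin.mem_toFinset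
  · intro q hne
    rw [hfin.mem_toFinset]
    refine ⟨fun h => ⟨h, ?_⟩, fun h => h.1⟩
    by_contra hab
    haveI := (dim_quot hA h).1
    haveI := (dim_quot hA h).2.2
    haveI : IsNoetherianRing (Localization.AtPrime q.asIdeal) :=
      IsLocalization.isNoetherianRing q.asIdeal.primeCompl _ inferInstance
    have hu : ∀ x : A, x ∉ q.asIdeal → IsUnit (algebraMap A (Localization.AtPrime q.asIdeal) x) := fun x hx =>
      IsLocalization.map_units _ (⟨x, hx⟩ : q.asIdeal.primeCompl)
    obtain ⟨c, hc⟩ := hu a fun h' => hab (Ideal.mul_mem_right _ _ h')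
    have hub := hu b fun h' => hab (Ideal.mul_mem_left _ _ h')
    refine hne ?_
    rw [← hc, TameLib.laws.2.2.2.1 c _ hub.mem_nonZeroDivisors, Ideal.span_singleton_eq_top.mpr hub,
      Module.length_eq_zero, ENat.toNat_zero, pow_zero]
    exact IntThLib.ordFrac_one

end Groth.Agent.TameKey
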