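import Mathlib

/-! Gluing algebras given at finitely many maximal ideals. -/

set_option linter.unusedSectionVars false

namespace Groth.Agent.TameKey.Glue

open TensorProduct

universe u

variable {A : Type u} [CommRing A] [IsNoetherianRing A] {r : ℕ} (m : Fin r → Ideal A) [∀ i, (m i).IsMaximal]
  (B : Fin r → Type u) [∀ i, CommRing (B i)] [∀ i, Algebra A (B i)] [∀ i, Algebra (Localization.AtPrime (m i)) (B i)]
  [∀ i, IsScalarTower A (Localization.AtPrime (m i)) (B i)]

/-- The other maximal ideals. -/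
abbrev Other := {P : MaximalSpectrum A // ∀ i, P.asIdeal ≠ m i}

/-- The ambient ring. -/
abbrev W := (∀ i, B i) × (∀ P : Other m, Localization.AtPrime P.1.asIdeal)

/-- The intersection of the maximal ideals. -/
def J : Ideal A := ⨅ i, m i

/-- The glued algebra. -/
def glue : Subalgebra A (W m B) where
  carrier := {c | ∃ N, ∀ y ∈ J m ^ N, y • c ∈ LinearMap.range (Algebra.linearMap A (W m B))}
  mul_mem' := by
    rintro c d ⟨N, hN⟩ ⟨M, hM⟩
    refine ⟨N + M, fun y hy => ?_⟩
    rw [pow_add] at hy
    refine Submodule.mul_induction_on hy (fun y hy z hz => ?_) fun y z hy hz => ?_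
    · obtain ⟨a, ha⟩ := hN y hy
      obtain ⟨b, hb⟩ := hM z hz
      refine ⟨a * b, ?_⟩
      rw [← smul_mul_smul_comm, ← ha, ← hb]
      exact map_mul (algebraMap A (W m B)) a b
    · rw [add_smul]; exact add_mem hy hz
  add_mem' := by
    rintro c d ⟨N, hN⟩ ⟨M, hM⟩
    refine ⟨N + M, fun y hy => ?_⟩
    rw [smul_add]
    exact add_mem (hN y (Ideal.pow_le_pow_right (Nat.le_add_right N M) hy))
      (hM y (Ideal.pow_le_pow_right (Nat.le_add_left M N) hy))
  algebraMap_mem' a := ⟨0, fun y _ => ⟨y * a, by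
    rw [Algebra.smul_def, ← map_mul]; rfl⟩⟩

variable {m B}
variable {n : ℕ}
  (hker : ∀ (i) (a : A), algebraMap A (B i) a = 0 → ∀ z ∈ m i ^ n, ∃ s ∉ m i, s * (z * a) = 0)
  (hcok : ∀ (i) (z : A), z ∈ m i ^ n → ∀ b : B i, ∃ (a s : A), s ∉ m i ∧ (s * z) • b = algebraMap A (B i) a)
  (hinj : Function.Injective m)

theorem isUnit_B {i : Fin r} {s : A} (hs : s ∉ m i) : IsUnit (algebraMap A (B i) s) := by
  rw [IsScalarTower.algebraMap_apply A (Localization.AtPrime (m i)) (B i)]
  exact (IsLocalization.map_units _ (⟨s, hs⟩ : (m i).primeCompl)).map _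

theorem not_J_le {P : Ideal A} [P.IsPrime] (h : ∀ i, ¬ m i ≤ P) (N : ℕ) : ¬ J m ^ N ≤ P := fun hle => by
  have hJ : J m ≤ P := (inferInstance : P.IsPrime).le_of_pow_le hle
  have hprod : (∏ i, m i) ≤ P := (le_iInf fun i =>
    Ideal.prod_le_inf.trans (Finset.inf_le (Finset.mem_univ i))).trans hJ
  obtain ⟨i, -, hi⟩ := (inferInstance : P.IsPrime).prod_le.mp hprod
  exact h i hi

theorem not_le_other (P : Other m) (i : Fin r) : ¬ m i ≤ P.1.asIdeal := fun h =>
  P.2 i ((inferInstance : (m i).IsMaximal).eq_of_le P.1.isMaximal.ne_top h).symm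

include hinj in
theorem not_le_m {i j : Fin r} (h : i ≠ j) : ¬ m i ≤ m j := fun hle =>
  h (hinj ((inferInstance : (m i).IsMaximal).eq_of_le (inferInstance : (m j).IsMaximal).ne_top hle))

theorem mem_of_ideal_le {P : Ideal A} (K : Ideal A) (h : ¬ K ≤ P) : ∃ y ∈ K, y ∉ P :=
  SetLike.not_le_iff_exists.mp h

include hker hinj in
/-- An element of the glued algebra with vanishing `i`-component dies at `m i`. -/
theorem exists_kill (i : Fin r) (c : glue m B) (hc : c.1.1 i = 0) : ∃ t ∉ m i, t • c = 0 := by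
  obtain ⟨N, hN⟩ := c.2
  obtain ⟨G, hG⟩ := IsNoetherian.noetherian (m i ^ n)
  obtain ⟨H, hH⟩ := IsNoetherian.noetherian (J m ^ N)
  classical
  choose a ha using fun y : H => hN y.1 (hH ▸ Submodule.subset_span y.2)
  have ha0 : ∀ y : H, algebraMap A (B i) (a y) = 0 := fun y => by
    have h := congrArg (fun w : W m B => w.1 i) (ha y)
    exact h.trans (by show y.1 • c.1.1 i = 0; rw [hc, smul_zero])
  choose s hs hs0 using fun p : H × G => hker i (a p.1) (ha0 p.1) p.2.1 (hG ▸ Submodule.subset_span p.2.2)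
  let σ := ∏ p, s p
  have hσ : σ ∉ m i := fun h => by
    obtain ⟨p, -, hp⟩ := (inferInstance : (m i).IsPrime).prod_mem_iff.mp h
    exact hs p hp
  -- `σ` times the product of ideals annihilates `c`
  have hann : ∀ z ∈ m i ^ n, ∀ y ∈ J m ^ N, (σ * z * y) • c.1 = 0 := by
    intro z hz y hy
    rw [← hG] at hz
    rw [← hH] at hy
    induction hz using Submodule.span_induction with
    | mem z hz =>
      induction hy using Submodule.span_induction with
      | mem y hy =>
        obtain ⟨e, he⟩ := Finset.dvd_prod_of_mem s (Finset.mem_univ ((⟨y, hy⟩, ⟨z, hz⟩) : H × G))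
        rw [mul_smul, ← ha ⟨y, hy⟩, ← map_smul, smul_eq_mul, show σ = e * s (⟨y, hy⟩, ⟨z, hz⟩) from by rw [mul_comm]; exact he,
          mul_assoc e, mul_assoc e, mul_assoc, hs0, mul_zero, map_zero]
      | zero => simp
      | add y y' _ _ h h' => rw [mul_add, add_smul, h, h', add_zero]
      | smul e y _ h => rw [smul_eq_mul, mul_left_comm (σ * z) e y, mul_smul, h, smul_zero]
    | zero => simp
    | add y y' _ _ h h' => rw [mul_add, add_mul, add_smul, h, h', add_zero]
    | smul e y _ h =>
      rw [smul_eq_mul, mul_left_comm σ e, mul_assoc e, mul_smul, h, smul_zero]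
  -- an element outside `m i` deep in the other maximal ideals
  obtain ⟨t, ht, htm⟩ : ∃ t ∈ ∏ j ∈ Finset.univ.erase i, m j ^ N, t ∉ m i := mem_of_ideal_le _ fun h => by
    obtain ⟨j, hj, hle⟩ := (inferInstance : (m i).IsPrime).prod_le.mp h
    exact not_le_m hinj (Finset.mem_erase.mp hj).1 ((inferInstance : (m i).IsPrime).le_of_pow_le hle)
  have hK : ∀ w ∈ m i ^ (n + N), (σ * t * w) • c.1 = 0 := fun w hw => by
    rw [pow_add] at hw
    refine Submodule.mul_induction_on hw (fun z hz y hy => ?_) fun y z hy hz => ?_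
    · rw [show σ * t * (z * y) = σ * z * (t * y) by ring]
      refine hann z hz _ ?_
      have h : t * y ∈ (∏ j ∈ Finset.univ.erase i, m j ^ N) * m i ^ N := Ideal.mul_mem_mul ht hy
      rw [mul_comm, Finset.mul_prod_erase Finset.univ (fun j => m j ^ N) (Finset.mem_univ i), Finset.prod_pow] at h
      exact Ideal.pow_right_mono (le_iInf fun k => Ideal.prod_le_inf.trans (Finset.inf_le (Finset.mem_univ k))) N h
    · rw [mul_add, add_smul, hy, hz, add_zero]
  refine ⟨σ * t, fun h => ((inferInstance : (m i).IsPrime).mem_or_mem h).elim hσ htm, Subtype.ext ?_⟩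
  refine Prod.ext (funext fun j => ?_) (funext fun P => ?_)
  · show (σ * t) • c.1.1 j = 0
    by_cases h : j = i
    · rw [h, hc, smul_zero]
    obtain ⟨w, hw, hwj⟩ := mem_of_ideal_le (P := m j) (m i ^ (n + N))
      fun hle => not_le_m hinj (Ne.symm h) ((inferInstance : (m j).IsPrime).le_of_pow_le hle)
    have e : (σ * t * w) • c.1.1 j = 0 := congrArg (fun v : W m B => v.1 j) (hK w hw)
    rw [mul_comm, mul_smul, Algebra.smul_def] at e
    exact (isUnit_B hwj).mul_right_eq_zero.mp e
  · show (σ * t) • c.1.2 P = 0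
    obtain ⟨w, hw, hwP⟩ := mem_of_ideal_le (P := P.1.asIdeal) (m i ^ (n + N))
      fun hle => not_le_other P i (P.1.isMaximal.isPrime.le_of_pow_le hle)
    have e : (σ * t * w) • c.1.2 P = 0 := congrArg (fun v : W m B => v.2 P) (hK w hw)
    rw [mul_comm, mul_smul, Algebra.smul_def] at e
    exact (IsLocalization.map_units _ (⟨w, hwP⟩ : P.1.asIdeal.primeCompl)).mul_right_eq_zero.mp e

include hker hinj in
/-- An element all whose components come from the localisations comes from `A`. -/
theorem mem_range (c : glue m B) (hc : ∀ i, c.1.1 i ∈ Set.range (algebraMap (Localization.AtPrime (m i)) (B i))) :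
    c ∈ Set.range (algebraMap A (glue m B)) := by
  let I : Ideal A := (LinearMap.range (Algebra.linearMap A (glue m B))).comap (LinearMap.toSpanSingleton A _ c)
  suffices h : I = ⊤ by
    obtain ⟨a, ha⟩ := (show (1 : A) ∈ I by rw [h]; trivial)
    exact ⟨a, ha.trans (one_smul A c)⟩
  by_contra hne
  obtain ⟨P, hP, hle⟩ := Ideal.exists_le_maximal I hne
  by_cases hPm : ∃ i, P = m i
  · obtain ⟨i, rfl⟩ := hPm
    obtain ⟨x, hx⟩ := hc i
    obtain ⟨⟨a, s, hs⟩, hx'⟩ := IsLocalization.surj (m i).primeCompl x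
    have h0 : (s • c - algebraMap A (glue m B) a).1.1 i = 0 := by
      show s • c.1.1 i - algebraMap A (B i) a = 0
      rw [← hx, Algebra.smul_def, IsScalarTower.algebraMap_apply A (Localization.AtPrime (m i)) (B i) s,
        IsScalarTower.algebraMap_apply A (Localization.AtPrime (m i)) (B i) a, ← map_mul, mul_comm, hx', sub_self]
    obtain ⟨t, ht, ht0⟩ := exists_kill hker hinj i _ h0
    refine ((inferInstance : (m i).IsPrime).mem_or_mem (hle (show t * s ∈ I from ⟨t * a, ?_⟩))).elim ht hs
    rw [smul_sub, sub_eq_zero] at ht0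
    show algebraMap A (glue m B) (t * a) = (t * s) • c
    rw [mul_smul, ht0, Algebra.smul_def, ← map_mul]
  · push Not at hPm
    obtain ⟨N, hN⟩ := c.2
    have := hP.isPrime
    obtain ⟨y, hy, hyP⟩ := mem_of_ideal_le _ (not_J_le (P := P)
      (fun i h => hPm i ((inferInstance : (m i).IsMaximal).eq_of_le hP.ne_top h).symm) N)
    obtain ⟨a, ha⟩ := hN y hy
    exact hyP (hle ⟨a, Subtype.ext ha⟩)

include hker hcok hinj in
/-- Every element of `B i` is a component, up to a denominator. -/
theorem exists_lift (i : Fin r) (b : B i) : ∃ (c : glue m B) (s : A), s ∉ m i ∧ c.1.1 i = s • b := by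
  classical
  obtain ⟨G, hG⟩ := IsNoetherian.noetherian (m i ^ n)
  choose a s hs ha using fun y : G => hcok i y.1 (hG ▸ Submodule.subset_span y.2) b
  have hmp := (inferInstance : (m i).IsPrime)
  let s₁ := ∏ y, s y
  have hs₁ : s₁ ∉ m i := fun h => by
    obtain ⟨y, -, hy⟩ := hmp.prod_mem_iff.mp h
    exact hs y hy
  choose e he using fun y : G => Finset.dvd_prod_of_mem s (Finset.mem_univ y)
  let α : G → A := fun y => e y * a y
  have hα : ∀ y : G, y.1 • (s₁ • b) = algebraMap A (B i) (α y) := fun y => by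
    rw [smul_smul, show y.1 * s₁ = e y * (s y * y.1) by rw [show s₁ = s y * e y from he y]; ring, mul_smul, ha,
      Algebra.smul_def, ← map_mul]
  have hd : ∀ y y' : G, algebraMap A (B i) (y'.1 * α y - y.1 * α y') = 0 := fun y y' => by
    rw [map_sub, map_mul (algebraMap A (B i)) y'.1, map_mul (algebraMap A (B i)) y.1, ← hα, ← hα, Algebra.smul_def y.1, Algebra.smul_def y'.1]
    ring
  choose u hu hu0 using fun p : G × G × G => hker i _ (hd p.1 p.2.1) p.2.2.1 (hG ▸ Submodule.subset_span p.2.2.2)
  let s₂ := ∏ p, u p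
  have hs₂ : s₂ ∉ m i := fun h => by
    obtain ⟨p, -, hp⟩ := hmp.prod_mem_iff.mp h
    exact hu p hp
  have key : ∀ y y' z : G, z.1 * (s₂ * (y'.1 * α y - y.1 * α y')) = 0 := fun y y' z => by
    obtain ⟨v, hv⟩ := Finset.dvd_prod_of_mem u (Finset.mem_univ (y, y', z))
    rw [show s₂ = u (y, y', z) * v from hv]
    linear_combination v * hu0 (y, y', z)
  have hyj : ∀ j : Fin r, j ≠ i → ∃ y : G, y.1 ∉ m j := fun j h => by
    by_contra hne
    push Not at hne
    refine not_le_m hinj (Ne.symm h) ((inferInstance : (m j).IsPrime).le_of_pow_le (n := n) ?_)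
    rw [← hG]
    exact Submodule.span_le.mpr fun y hy => hne ⟨y, hy⟩
  have hyP : ∀ P : Other m, ∃ y : G, y.1 ∉ P.1.asIdeal := fun P => by
    by_contra hne
    push Not at hne
    refine not_le_other P i (P.1.isMaximal.isPrime.le_of_pow_le (n := n) ?_)
    rw [← hG]
    exact Submodule.span_le.mpr fun y hy => hne ⟨y, hy⟩
  choose yj hyj using hyj
  choose yP hyP using hyP
  let c : W m B :=
    (fun j => if h : j = i then h ▸ ((s₂ * s₁) • b)
      else algebraMap A (B j) (s₂ * α (yj j h)) * (((isUnit_B (B := B) (hyj j h)).unit⁻¹ : (B j)ˣ) : B j),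
    fun P => algebraMap A _ (s₂ * α (yP P)) *
      ↑(IsLocalization.map_units (Localization.AtPrime P.1.asIdeal) (⟨_, hyP P⟩ : P.1.asIdeal.primeCompl)).unit⁻¹)
  have hgen : ∀ y : G, y.1 • c = algebraMap A (W m B) (s₂ * α y) := fun y => by
    refine Prod.ext (funext fun j => ?_) (funext fun P => ?_)
    · show y.1 • c.1 j = algebraMap A (B j) (s₂ * α y)
      by_cases h : j = i
      · subst h
        simp only [c, dif_pos]
        rw [mul_smul s₂, smul_comm, hα, Algebra.smul_def, ← map_mul]
      · simp only [c, dif_neg h]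
        rw [Algebra.smul_def, ← mul_assoc, Units.mul_inv_eq_iff_eq_mul, IsUnit.unit_spec, ← map_mul, ← map_mul]
        refine (isUnit_B (hyj j h)).mul_left_cancel ?_
        rw [← map_mul, ← map_mul]
        congr 1
        linear_combination key (yj j h) y (yj j h)
    · show y.1 • c.2 P = algebraMap A _ (s₂ * α y)
      have hu' := IsLocalization.map_units (Localization.AtPrime P.1.asIdeal) (⟨_, hyP P⟩ : P.1.asIdeal.primeCompl)
      show y.1 • (algebraMap A (Localization.AtPrime P.1.asIdeal) (s₂ * α (yP P)) *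
        ((hu'.unit⁻¹ : (Localization.AtPrime P.1.asIdeal)ˣ) : Localization.AtPrime P.1.asIdeal)) = _
      rw [Algebra.smul_def, ← mul_assoc, Units.mul_inv_eq_iff_eq_mul, IsUnit.unit_spec, ← map_mul, ← map_mul]
      refine hu'.mul_left_cancel ?_
      rw [← map_mul, ← map_mul]
      congr 1
      linear_combination key (yP P) y (yP P)
  refine ⟨⟨c, n, fun y hy => ?_⟩, s₂ * s₁, fun h => (hmp.mem_or_mem h).elim hs₂ hs₁, ?_⟩
  · have hy' : y ∈ Submodule.span A (G : Set A) := hG ▸ Ideal.pow_right_mono (iInf_le m i) n hy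
    clear hy
    induction hy' using Submodule.span_induction with
    | mem y hy => exact ⟨_, (hgen ⟨y, hy⟩).symm⟩
    | zero => rw [zero_smul]; exact zero_mem _
    | add y z _ _ h h' => rw [add_smul]; exact add_mem h h'
    | smul e y _ h => rw [smul_eq_mul, mul_smul]; exact Submodule.smul_mem _ _ h
  · simp [c]

/-- The component map. -/
def proj (i : Fin r) : glue m B →ₐ[A] B i :=
  ((Pi.evalAlgHom A B i).comp (AlgHom.fst A (∀ i, B i) (∀ P : Other m, Localization.AtPrime P.1.asIdeal))).comp
    (glue m B).val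

include hker hcok hinj in
theorem nonempty_equiv (i : Fin r) :
    Nonempty ((Localization.AtPrime (m i)) ⊗[A] (glue m B) ≃ₐ[Localization.AtPrime (m i)] B i) := by
  let _ : Algebra (glue m B) (B i) := (proj i).toRingHom.toAlgebra
  haveI : IsScalarTower A (glue m B) (B i) := IsScalarTower.of_algebraMap_eq fun a => ((proj i).commutes a).symm
  haveI : IsLocalization (Algebra.algebraMapSubmonoid (glue m B) (m i).primeCompl) (B i) := by
    refine ⟨?_, fun b => ?_, fun {x y} hxy => ?_⟩
    · rintro ⟨_, s, hs, rfl⟩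
      show IsUnit (proj i (algebraMap A (glue m B) s))
      rw [AlgHom.commutes]
      exact isUnit_B hs
    · obtain ⟨c, s, hs, hc⟩ := exists_lift hker hcok hinj i b
      refine ⟨⟨c, ⟨_, s, hs, rfl⟩⟩, ?_⟩
      show b * proj i (algebraMap A (glue m B) s) = c.1.1 i
      rw [AlgHom.commutes, hc, Algebra.smul_def, mul_comm]
    · have h0 : (x - y).1.1 i = 0 := sub_eq_zero.mpr hxy
      obtain ⟨t, ht, ht0⟩ := exists_kill hker hinj i _ h0
      refine ⟨⟨_, t, ht, rfl⟩, ?_⟩
      rw [smul_sub, sub_eq_zero, Algebra.smul_def, Algebra.smul_def] at ht0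
      exact ht0
  haveI : Algebra.IsPushout A (Localization.AtPrime (m i)) (glue m B) (B i) :=
    (Algebra.isPushout_of_isLocalization (m i).primeCompl (Localization.AtPrime (m i)) (glue m B) (B i)).symm
  exact ⟨Algebra.IsPushout.equiv A (Localization.AtPrime (m i)) (glue m B) (B i)⟩

include hker hcok hinj in
theorem glue_bounds :
    (∀ x ∈ RingHom.ker (algebraMap A (glue m B)), ∀ y ∈ J m ^ n, y * x = 0) ∧
      (∀ y ∈ J m ^ n, ∀ c : glue m B, y • c ∈ (algebraMap A (glue m B)).range) := by
  refine ⟨fun x hx y hy => ?_, fun y hy c => mem_range hker hinj _ fun i => ?_⟩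
  · have hx' : algebraMap A (W m B) x = 0 := congrArg Subtype.val (RingHom.mem_ker.mp hx)
    let I : Ideal A := LinearMap.ker (LinearMap.toSpanSingleton A A (y * x))
    suffices h : I = ⊤ by
      have h1 : (1 : A) ∈ I := by rw [h]; trivial
      simpa [I] using h1
    by_contra hne
    obtain ⟨P, hP, hle⟩ := Ideal.exists_le_maximal I hne
    by_cases hPm : ∃ i, P = m i
    · obtain ⟨i, rfl⟩ := hPm
      obtain ⟨s, hs, hs0⟩ := hker i x (congrArg (fun v : W m B => v.1 i) hx') y (Ideal.pow_right_mono (iInf_le m i) n hy)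
      exact hs (hle (show s ∈ I from hs0))
    · push Not at hPm
      obtain ⟨⟨s, hs⟩, hs0⟩ := (IsLocalization.map_eq_zero_iff P.primeCompl (Localization.AtPrime P) x).mp
        (congrArg (fun v : W m B => v.2 ⟨⟨P, hP⟩, hPm⟩) hx')
      refine hs (hle (show s ∈ I from ?_))
      show s * (y * x) = 0
      rw [mul_left_comm, hs0, mul_zero]
  · obtain ⟨a, s, hs, h⟩ := hcok i y (Ideal.pow_right_mono (iInf_le m i) n hy) (c.1.1 i)
    refine ⟨IsLocalization.mk' _ a (⟨s, hs⟩ : (m i).primeCompl), ?_⟩
    refine (isUnit_B hs).mul_left_cancel ?_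
    rw [IsScalarTower.algebraMap_apply A (Localization.AtPrime (m i)) (B i) s, ← map_mul]
    rw [show algebraMap A (Localization.AtPrime (m i)) s * IsLocalization.mk' _ a (⟨s, hs⟩ : (m i).primeCompl) =
      algebraMap A _ a from IsLocalization.mk'_spec' _ a (⟨s, hs⟩ : (m i).primeCompl),
      ← IsScalarTower.algebraMap_apply, ← h, ← IsScalarTower.algebraMap_apply, mul_smul, Algebra.smul_def s]
    rfl

include hker hinj in
theorem glue_injective (h : ∀ i, Function.Injective (algebraMap (Localization.AtPrime (m i)) (B i))) :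
    Function.Injective (algebraMap A (glue m B)) := by
  rw [injective_iff_map_eq_zero]
  intro x hx
  have hx' : algebraMap A (W m B) x = 0 := congrArg Subtype.val hx
  let I : Ideal A := LinearMap.ker (LinearMap.toSpanSingleton A A x)
  suffices h : I = ⊤ by
    have h1 : (1 : A) ∈ I := by rw [h]; trivial
    simpa [I] using h1
  by_contra hne
  obtain ⟨P, hP, hle⟩ := Ideal.exists_le_maximal I hne
  obtain ⟨⟨s, hs⟩, hs0⟩ : ∃ s : P.primeCompl, (s : A) * x = 0 := by
    refine (IsLocalization.map_eq_zero_iff P.primeCompl (Localization.AtPrime P) x).mp ?_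
    by_cases hPm : ∃ i, P = m i
    · obtain ⟨i, rfl⟩ := hPm
      refine h i ?_
      rw [map_zero, ← IsScalarTower.algebraMap_apply]
      exact congrArg (fun v : W m B => v.1 i) hx'
    · push Not at hPm
      exact congrArg (fun v : W m B => v.2 ⟨⟨P, hP⟩, hPm⟩) hx'
  exact hs (hle (show s ∈ I from hs0))

include hker hcok hinj in
theorem glue_finite (h : ∀ i, (algebraMap (Localization.AtPrime (m i)) (B i)).Finite) :
    (algebraMap A (glue m B)).Finite := by
  rw [RingHom.finite_algebraMap]
  let Z : ∀ i, Submodule A (B i) := fun i =>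
    (LinearMap.range (Algebra.linearMap (Localization.AtPrime (m i)) (B i))).restrictScalars A
  have hZ : ∀ i, Module.Finite A (B i ⧸ Z i) := fun i => by
    have hf : Module.Finite (Localization.AtPrime (m i)) (B i) := RingHom.finite_algebraMap.mp (h i)
    obtain ⟨G, hG⟩ := hf.fg_top
    classical
    refine ⟨⟨G.image (Submodule.mkQ (Z i)), eq_top_iff.mpr fun z hz => ?_⟩⟩
    clear hz
    obtain ⟨b, rfl⟩ := Submodule.mkQ_surjective _ z
    have hb : b ∈ Submodule.span (Localization.AtPrime (m i)) (G : Set (B i)) := hG ▸ trivial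
    induction hb using Submodule.span_induction with
    | mem b hb => exact Submodule.subset_span (Finset.mem_image_of_mem _ hb)
    | zero => rw [map_zero]; exact zero_mem _
    | add b b' _ _ hb hb' => rw [map_add]; exact add_mem hb hb'
    | smul e b _ hb =>
      obtain ⟨⟨a, s⟩, he⟩ := IsLocalization.surj (m i).primeCompl e
      obtain ⟨u, hu⟩ : ∃ u, u * (s : A) - 1 ∈ m i ^ n := by
        have htop : Ideal.span {(s : A)} ⊔ m i ^ n = ⊤ := by
          by_contra hne
          obtain ⟨P, hP, hle⟩ := Ideal.exists_le_maximal _ hne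
          have := hP.isPrime.le_of_pow_le (le_sup_right.trans hle)
          exact s.2 (((inferInstance : (m i).IsMaximal).eq_of_le hP.ne_top this).ge
            (hle (Ideal.mem_sup_left (Ideal.mem_span_singleton_self _))))
        obtain ⟨_, hx, w, hw, hxw⟩ := Submodule.mem_sup.mp ((Ideal.eq_top_iff_one _).mp htop)
        obtain ⟨u, rfl⟩ := Ideal.mem_span_singleton'.mp hx
        exact ⟨u, by rw [show u * (s : A) - 1 = -w by linear_combination hxw]; exact neg_mem hw⟩
      have h1 : Submodule.mkQ (Z i) (e • b) = (u * a) • Submodule.mkQ (Z i) b := by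
        rw [← map_smul, Submodule.mkQ_apply, Submodule.mkQ_apply, Submodule.Quotient.eq]
        obtain ⟨a', s', hs', ha'⟩ := hcok i _ (neg_mem hu) (e • b)
        refine ⟨IsLocalization.mk' _ a' (⟨s', hs'⟩ : (m i).primeCompl), ?_⟩
        refine (isUnit_B hs').mul_left_cancel ?_
        show algebraMap A (B i) s' * algebraMap (Localization.AtPrime (m i)) (B i) _ = _
        rw [IsScalarTower.algebraMap_apply A (Localization.AtPrime (m i)) (B i) s', ← map_mul]
        rw [show algebraMap A (Localization.AtPrime (m i)) s' * IsLocalization.mk' _ a' (⟨s', hs'⟩ : (m i).primeCompl) =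
          algebraMap A _ a' from IsLocalization.mk'_spec' _ a' (⟨s', hs'⟩ : (m i).primeCompl),
          ← IsScalarTower.algebraMap_apply, ← ha', ← IsScalarTower.algebraMap_apply,
          ← Algebra.smul_def, mul_smul]
        congr 1
        rw [neg_smul, sub_smul, one_smul, neg_sub, mul_smul u (s : A), ← algebraMap_smul (Localization.AtPrime (m i)) (s : A),
          smul_smul (algebraMap A _ (s : A)), mul_comm (algebraMap A _ (s : A)), he, algebraMap_smul, mul_smul u a]
      rw [h1]
      exact Submodule.smul_mem _ _ hb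
  let f : glue m B →ₗ[A] ∀ i, B i ⧸ Z i := LinearMap.pi fun i => (Z i).mkQ ∘ₗ (proj i).toLinearMap
  have hker' : LinearMap.ker f = LinearMap.range (Algebra.linearMap A (glue m B)) := by
    refine le_antisymm (fun c hc => mem_range hker hinj c fun i => ?_) ?_
    · exact (Submodule.Quotient.mk_eq_zero _).mp (congrFun (LinearMap.mem_ker.mp hc) i)
    · rintro _ ⟨a, rfl⟩
      refine LinearMap.mem_ker.mpr (funext fun i => (Submodule.Quotient.mk_eq_zero _).mpr
        ⟨algebraMap A _ a, ?_⟩)
      show algebraMap (Localization.AtPrime (m i)) (B i) (algebraMap A _ a) = proj i (algebraMap A (glue m B) a)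
      rw [AlgHom.commutes, ← IsScalarTower.algebraMap_apply]
  have h1 : (LinearMap.range f).FG := IsNoetherian.noetherian _
  refine ⟨Submodule.fg_of_fg_map_of_fg_inf_ker f (by rwa [Submodule.map_top]) ?_⟩
  rw [top_inf_eq, hker', ← Submodule.map_top]
  exact Module.Finite.fg_top.map _

end Groth.Agent.TameKey.Glue
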