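import Groth.Agent.CycLib.EulerDim1
import Groth.Agent.CycLib.Periodic
import Groth.Agent.IntThLib.Dim1
import Groth.Agent.IntThLib.Lattice

/-! The length formula for a fraction `a / b`. -/

set_option linter.unusedSectionVars false

namespace Groth.Agent.TameKey

universe u

variable {A : Type u} [CommRing A] [IsNoetherianRing A] [IsLocalRing A]
  {M : Type u} [AddCommGroup M] [Module A M] [Module.Finite A M]

theorem length_quot_regular (hA : ringKrullDim A = 1) (a : A) (ha : ∀ p ∈ minimalPrimes A, a ∉ p)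
    (hinj : Function.Injective (LinearMap.lsmul A M a))
    (s : Finset (PrimeSpectrum A)) (hs : ∀ p, p ∈ s ↔ p.asIdeal ∈ minimalPrimes A) :
    Module.length A (M ⧸ LinearMap.range (LinearMap.lsmul A M a)) ≠ ⊤ ∧
      ((Module.length A (M ⧸ LinearMap.range (LinearMap.lsmul A M a))).toNat : ℤ) =
        ∑ p ∈ s, ((Module.length (Localization.AtPrime p.asIdeal) (LocalizedModule p.asIdeal.primeCompl M)).toNat : ℤ) *
          CycAlg.ordFrac (A ⧸ p.asIdeal) p.asIdeal.ResidueField (algebraMap A p.asIdeal.ResidueField a) := by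
  classical
  have hker : Module.length A (LinearMap.ker (LinearMap.lsmul A M a)) = 0 := by
    rw [LinearMap.ker_eq_bot.mpr hinj]
    exact Module.length_eq_zero
  have h := IntThLib.length_quot_smul_eq hA M a ha
  rw [hker, zero_add, finsum_cond_eq_sum_of_cond_iff
    (f := fun p : PrimeSpectrum A => Module.length (Localization.AtPrime p.asIdeal)
      (LocalizedModule p.asIdeal.primeCompl M) * Module.length A (A ⧸ (p.asIdeal ⊔ Ideal.span {a})))
    (t := s) (fun {x} _ => (hs x).symm)] at h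
  have hdim : ∀ p ∈ s, Ring.KrullDimLE 1 (A ⧸ p.asIdeal) := fun p _ => by
    rw [Ring.KrullDimLE, Order.krullDimLE_iff]
    exact (ringKrullDim_quotient_le p.asIdeal).trans hA.le
  have hne : ∀ p ∈ s, Ideal.Quotient.mk p.asIdeal a ≠ 0 := fun p hp h0 =>
    ha _ ((hs p).mp hp) (Ideal.Quotient.eq_zero_iff_mem.mp h0)
  have hterm : ∀ p ∈ s, Module.length (Localization.AtPrime p.asIdeal) (LocalizedModule p.asIdeal.primeCompl M) *
      Module.length A (A ⧸ (p.asIdeal ⊔ Ideal.span {a})) =
      (((Module.length (Localization.AtPrime p.asIdeal) (LocalizedModule p.asIdeal.primeCompl M)).toNat *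
        (Ring.ord (A ⧸ p.asIdeal) (Ideal.Quotient.mk p.asIdeal a)).toNat : ℕ) : ℕ∞) := fun p hp => by
    have := hdim p hp
    rw [Nat.cast_mul, ENat.natCast_toNat (IntThLib.length_localized_ne_top _ ((hs p).mp hp) M),
      ENat.natCast_toNat (Ring.ord_ne_top (mem_nonZeroDivisors_of_ne_zero (hne p hp))),
      CycLib.ord_eq_length p.asIdeal a]
  rw [Finset.sum_congr rfl hterm, ← Nat.cast_sum] at h
  refine ⟨by rw [h]; exact ENat.natCast_ne_top _, ?_⟩
  rw [h, ENat.toNat_natCast, Nat.cast_sum]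
  refine Finset.sum_congr rfl fun p hp => ?_
  have := hdim p hp
  rw [Nat.cast_mul, show algebraMap A p.asIdeal.ResidueField a =
      algebraMap (A ⧸ p.asIdeal) p.asIdeal.ResidueField (Ideal.Quotient.mk p.asIdeal a) from rfl,
    IntThLib.ordFrac_algebraMap (hne p hp)]

theorem length_sub_length (hA : ringKrullDim A = 1) (a b : A) (ha : a ∈ nonZeroDivisors A) (hb : b ∈ nonZeroDivisors A)
    (hMemb : ∀ p ∈ associatedPrimes A M, p ∈ minimalPrimes A) (I : Ideal A)
    (hI : I = (Ideal.span {b}).colon (Ideal.span {a})) (P : Submodule A M)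
    (hP : P = Submodule.comap (LinearMap.lsmul A M b) ((Ideal.span {a} * I) • (⊤ : Submodule A M))) :
    (Ideal.span {a} * I) • (⊤ : Submodule A M) ≤ LinearMap.range (LinearMap.lsmul A M b) ∧
      ((Module.length A (M ⧸ P)).toNat : ℤ) - ((Module.length A (M ⧸ I • (⊤ : Submodule A M))).toNat : ℤ) =
        ∑ᶠ (q : PrimeSpectrum A) (_ : q.asIdeal ∈ minimalPrimes A),
          ((Module.length (Localization.AtPrime q.asIdeal) (LocalizedModule q.asIdeal.primeCompl M)).toNat : ℤ) *
            CycAlg.ordFrac (A ⧸ q.asIdeal) q.asIdeal.ResidueField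
              (algebraMap A q.asIdeal.ResidueField a / algebraMap A q.asIdeal.ResidueField b) := by
  classical
  have hreg : ∀ c ∈ nonZeroDivisors A, (∀ p ∈ minimalPrimes A, c ∉ p) ∧
      Function.Injective (LinearMap.lsmul A M c) := fun c hc => by
    have hmin : ∀ p ∈ minimalPrimes A, c ∉ p := fun p hp h =>
      Set.disjoint_left.mp (Ideal.disjoint_nonZeroDivisors_of_mem_minimalPrimes hp) h hc
    refine ⟨hmin, (injective_iff_map_eq_zero _).mpr fun x hx => ?_⟩
    by_contra hx0
    have h1 : c ∈ ⋃ p ∈ associatedPrimes A M, (p : Set A) := by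
      rw [biUnion_associatedPrimes_eq_zero_divisors]
      exact ⟨x, hx0, hx⟩
    obtain ⟨p, hp, hcp⟩ := Set.mem_iUnion₂.mp h1
    exact hmin p (hMemb p hp) hcp
  have haI : ∀ i ∈ I, ∃ c, a * i = c * b := fun i hi => by
    rw [hI, Submodule.mem_colon] at hi
    obtain ⟨c, hc⟩ := Ideal.mem_span_singleton'.mp (hi a (Ideal.mem_span_singleton_self a))
    exact ⟨c, by rw [hc, smul_eq_mul, mul_comm]⟩
  have hle : (Ideal.span {a} * I) • (⊤ : Submodule A M) ≤ LinearMap.range (LinearMap.lsmul A M b) := by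
    refine Submodule.smul_le.mpr fun r hr m _ => ?_
    obtain ⟨i, hi, rfl⟩ := Ideal.mem_span_singleton_mul.mp hr
    obtain ⟨c, hc⟩ := haI i hi
    exact ⟨c • m, by rw [LinearMap.lsmul_apply, smul_smul, mul_comm b c, hc]⟩
  refine ⟨hle, ?_⟩
  subst hP
  let W := (Ideal.span {a} * I) • (⊤ : Submodule A M)
  let φa := LinearMap.lsmul A M a
  let φb := LinearMap.lsmul A M b
  have hWa : W = Submodule.map φa (I • ⊤) := by
    apply le_antisymm
    · refine Submodule.smul_le.mpr fun r hr m _ => ?_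
      obtain ⟨i, hi, rfl⟩ := Ideal.mem_span_singleton_mul.mp hr
      exact ⟨i • m, Submodule.smul_mem_smul hi trivial, smul_smul a i m⟩
    · rw [Submodule.map_le_iff_le_comap]
      refine Submodule.smul_le.mpr fun i hi m _ => ?_
      show a • i • m ∈ W
      rw [smul_smul]
      exact Submodule.smul_mem_smul (Ideal.mem_span_singleton_mul.mpr ⟨i, hi, rfl⟩) trivial
  have hWb : W = Submodule.map φb (Submodule.comap φb W) :=
    (Submodule.map_comap_eq_of_le hle).symm
  have key : ∀ (φ : M →ₗ[A] M), Function.Injective φ → ∀ X : Submodule A M,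
      Module.length A (M ⧸ X.map φ) = Module.length A (M ⧸ X) + Module.length A (M ⧸ LinearMap.range φ) := by
    intro φ hφ X
    refine Module.length_eq_add_of_exact (Submodule.mapQ X (X.map φ) φ (Submodule.le_comap_map φ X))
      (Submodule.factor LinearMap.map_le_range) ?_ (Submodule.factor_surjective _) ?_
    · rw [injective_iff_map_eq_zero]
      intro z
      obtain ⟨z, rfl⟩ := Submodule.mkQ_surjective _ z
      intro h
      obtain ⟨y, hy, hy'⟩ := (Submodule.Quotient.mk_eq_zero _).mp h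
      exact (Submodule.Quotient.mk_eq_zero _).mpr (hφ hy' ▸ hy)
    · intro z
      obtain ⟨z, rfl⟩ := Submodule.mkQ_surjective _ z
      constructor
      · intro h
        obtain ⟨y, hy⟩ := (Submodule.Quotient.mk_eq_zero _).mp h
        exact ⟨Submodule.mkQ _ y, congrArg (Submodule.mkQ (X.map φ)) hy⟩
      · rintro ⟨y, hy⟩
        obtain ⟨y, rfl⟩ := Submodule.mkQ_surjective _ y
        rw [← hy]
        exact (Submodule.Quotient.mk_eq_zero _).mpr ⟨y, rfl⟩
  let S : Finset (PrimeSpectrum A) := ((minimalPrimes.finite_of_isNoetherianRing A).preimage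
    (fun _ _ _ _ h => PrimeSpectrum.ext h : Set.InjOn PrimeSpectrum.asIdeal _)).toFinset
  have hS : ∀ p, p ∈ S ↔ p.asIdeal ∈ minimalPrimes A := fun p => Set.Finite.mem_toFinset _
  obtain ⟨fa, ea⟩ := length_quot_regular hA a (hreg a ha).1 (hreg a ha).2 S hS
  obtain ⟨fb, eb⟩ := length_quot_regular hA b (hreg b hb).1 (hreg b hb).2 S hS
  have e1 : Module.length A (M ⧸ W) = Module.length A (M ⧸ I • (⊤ : Submodule A M)) +
      Module.length A (M ⧸ LinearMap.range φa) := by rw [hWa]; exact key φa (hreg a ha).2 _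
  have e2 : Module.length A (M ⧸ W) = Module.length A (M ⧸ Submodule.comap φb W) +
      Module.length A (M ⧸ LinearMap.range φb) :=
    (congrArg (fun X => Module.length A (M ⧸ X)) hWb).trans (key φb (hreg b hb).2 _)
  have fI : Module.length A (M ⧸ I • (⊤ : Submodule A M)) ≠ ⊤ := by
    refine ne_top_of_le_ne_top fb (Module.length_le_of_surjective (Submodule.factor ?_) (Submodule.factor_surjective _))
    rintro _ ⟨m, rfl⟩
    refine Submodule.smul_mem_smul ?_ trivial
    rw [hI, Submodule.mem_colon]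
    exact fun p _ => Ideal.mem_span_singleton'.mpr ⟨p, mul_comm p b⟩
  rw [e1] at e2
  have fP : Module.length A (M ⧸ Submodule.comap φb W) ≠ ⊤ := fun h => by
    rw [h, top_add] at e2
    exact WithTop.add_ne_top.mpr ⟨fI, fa⟩ e2
  have e := congrArg (fun x : ℕ∞ => (x.toNat : ℤ)) e2
  rw [ENat.toNat_add fI fa, ENat.toNat_add fP fb, Nat.cast_add, Nat.cast_add, ea, eb] at e
  rw [finsum_cond_eq_sum_of_cond_iff _ (t := S) (fun {x} _ => (hS x).symm)]
  let ℓ := fun p : PrimeSpectrum A =>
    ((Module.length (Localization.AtPrime p.asIdeal) (LocalizedModule p.asIdeal.primeCompl M)).toNat : ℤ)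
  let o := fun (c : A) (p : PrimeSpectrum A) =>
    CycAlg.ordFrac (A ⧸ p.asIdeal) p.asIdeal.ResidueField (algebraMap A p.asIdeal.ResidueField c)
  refine Eq.trans (b := (∑ p ∈ S, ℓ p * o a p) - ∑ p ∈ S, ℓ p * o b p) (by
    change _ = (∑ p ∈ S, ℓ p * o a p) - ∑ p ∈ S, ℓ p * o b p
    have e' : _ + (∑ p ∈ S, ℓ p * o a p) = _ + ∑ p ∈ S, ℓ p * o b p := e
    linarith) ((Finset.sum_sub_distrib _ _).symm.trans
    (Finset.sum_congr rfl fun p hp => ?_))
  have : Ring.KrullDimLE 1 (A ⧸ p.asIdeal) := by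
    rw [Ring.KrullDimLE, Order.krullDimLE_iff]
    exact (ringKrullDim_quotient_le p.asIdeal).trans hA.le
  have hz : ∀ c ∈ nonZeroDivisors A, algebraMap A p.asIdeal.ResidueField c ≠ 0 := fun c hc =>
    mt Ideal.algebraMap_residueField_eq_zero.mp ((hreg c hc).1 _ ((hS p).mp hp))
  have h2 := IntThLib.ordFrac_mul (A := A ⧸ p.asIdeal) (div_ne_zero (hz a ha) (hz b hb)) (hz b hb)
  rw [div_mul_cancel₀ _ (hz b hb)] at h2
  show ℓ p * o a p - ℓ p * o b p = ℓ p * _
  simp only [o, h2]
  ring

end Groth.Agent.TameKey
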