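import Groth.Agent.TameKey.Global
import Mathlib.RingTheory.IsTensorProduct

/-! A finite birational extension with prescribed localisations at the primes through `t`. -/

set_option linter.unusedSectionVars false
set_option linter.style.haveILetI false

namespace Groth.Agent.TameKey

open IsLocalRing CycAlg TensorProduct

universe u

variable {A : Type u} [CommRing A] [IsNoetherianRing A] [IsLocalRing A]

set_option maxHeartbeats 2000000 in
theorem exists_glue_height_one (hA : ringKrullDim A = 2) {t : A} (htnz : t ∈ nonZeroDivisors A)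
    (htm : t ∈ maximalIdeal A) {r : ℕ} (q : Fin r → Ideal A) [∀ i, (q i).IsPrime] (hinj : Function.Injective q)
    (hqm : ∀ i, q i ≠ maximalIdeal A) (htq : ∀ i, t ∈ q i)
    (hV : ∀ p : Ideal A, p.IsPrime → t ∈ p → p = maximalIdeal A ∨ ∃ i, p = q i)
    (B : Fin r → Type u) [∀ i, CommRing (B i)] [∀ i, Algebra (Localization.AtPrime (q i)) (B i)]
    [∀ i, Algebra A (B i)] [∀ i, IsScalarTower A (Localization.AtPrime (q i)) (B i)]
    (hB : ∀ i, CycAlg.IsFinExt (Localization.AtPrime (q i)) (B i) (Ideal.span {algebraMap A (Localization.AtPrime (q i)) t}))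
    (htB : ∀ i, IsSMulRegular (B i) (algebraMap A (Localization.AtPrime (q i)) t)) :
    ∃ (C : Type u) (_ : CommRing C) (_ : Algebra A C), CycAlg.IsFinExt A C (Ideal.span {t}) ∧
      ∀ i, Nonempty (Localization.AtPrime (q i) ⊗[A] C ≃ₐ[Localization.AtPrime (q i)] B i) := by
  classical
  have hq1 : ∀ i, (q i).height = 1 := fun i => height_eq_one hA htnz (htq i) (hqm i)
  have hle : ∀ i l, q l ≤ q i → l = i := fun i l h => hinj (by
    by_contra hne
    haveI : (q l).FiniteHeight := ⟨Or.inr (by rw [hq1]; exact ENat.one_ne_top)⟩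
    haveI : (q i).FiniteHeight := ⟨Or.inr (by rw [hq1]; exact ENat.one_ne_top)⟩
    have h1 := Ideal.height_strict_mono_of_isPrime_of_isPrime (lt_of_le_of_ne h hne)
    rw [hq1, hq1] at h1
    exact lt_irrefl _ h1)
  haveI : ∀ i, Ring.KrullDimLE 1 (Localization.AtPrime (q i)) := fun i => (dim_quot hA (hq1 i)).2.2
  haveI : ∀ i, IsNoetherianRing (Localization.AtPrime (q i)) := fun i =>
    IsLocalization.isNoetherianRing (q i).primeCompl _ inferInstance
  haveI : ∀ i, Module.Finite (Localization.AtPrime (q i)) (B i) := fun i => (hB i).2.1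
  have hmem : ∀ i, algebraMap A (Localization.AtPrime (q i)) t ∈ maximalIdeal (Localization.AtPrime (q i)) := fun i =>
    (IsLocalization.AtPrime.to_map_mem_maximal_iff _ (q i) t).mpr (htq i)
  choose k hk using fun i => (hB i).2.2
  let n := Finset.univ.sup k
  have hk' : ∀ i (d : B i), ∃ α, algebraMap (Localization.AtPrime (q i)) (B i) α = (algebraMap A (Localization.AtPrime (q i)) t ^ n) • d :=
    fun i d => hk i _ (Ideal.pow_le_pow_right (Finset.le_sup (Finset.mem_univ i))
      (Ideal.pow_mem_pow (Ideal.mem_span_singleton_self _) n)) d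
  have hGood : ∀ i, TameLib.Good (Localization.AtPrime (q i)) (B i) := fun i => by
    obtain ⟨N, hN⟩ := TameLib.exists_pow_maximalIdeal_le
      (pow_mem (map_mem_nonZeroDivisors (q i) htnz) (k i))
    refine TameLib.good_of_regular ⟨(hB i).1, (hB i).2.1, N, fun x hx => hk i x ?_⟩ (hmem i) ?_
    · rw [Ideal.span_singleton_pow]
      exact hN hx
    · refine mem_nonZeroDivisors_iff_right.mpr fun z hz => htB i ?_
      simp only [Algebra.smul_def, mul_zero]
      rw [mul_comm]
      exact hz
  choose φ hφ hφreg using fun i =>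
    TameLib.exists_embedding (hGood i) (hmem i) (map_mem_nonZeroDivisors (q i) htnz)
  let At := Localization.Away t
  have htu : IsUnit (algebraMap A At t) := IsLocalization.Away.algebraMap_isUnit t
  let K : Fin r → Type u := fun i => Localization.Away (algebraMap A (Localization.AtPrime (q i)) t)
  have htK : ∀ i, IsUnit (algebraMap A (K i) t) := fun i => by
    rw [IsScalarTower.algebraMap_apply A (Localization.AtPrime (q i)) (K i)]
    exact IsLocalization.Away.algebraMap_isUnit _
  let j : ∀ i, At →ₐ[A] K i := fun i =>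
    { IsLocalization.Away.lift t (htK i) with commutes' := fun x => IsLocalization.Away.lift_eq t (htK i) x }
  have hjker : ∀ i (z : At), j i z = 0 → ∃ s ∉ q i, s • z = 0 := fun i z hz => by
    obtain ⟨k, α, hα⟩ := IsLocalization.Away.surj t z
    have h1 := congrArg (j i) hα
    rw [map_mul, hz, zero_mul, AlgHom.commutes,
      IsScalarTower.algebraMap_apply A (Localization.AtPrime (q i)) (K i), eq_comm,
      IsLocalization.map_eq_zero_iff (Submonoid.powers (algebraMap A (Localization.AtPrime (q i)) t))] at h1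
    obtain ⟨⟨_, e, rfl⟩, he⟩ := h1
    dsimp only at he
    rw [← map_pow, ← map_mul, IsLocalization.map_eq_zero_iff (q i).primeCompl] at he
    obtain ⟨⟨s, hs⟩, hs'⟩ := he
    refine ⟨s, hs, (htu.pow (e + k)).mul_left_cancel ?_⟩
    rw [Algebra.smul_def, mul_zero, ← map_pow, ← mul_assoc, ← map_mul,
      show t ^ (e + k) * s = (s * t ^ e) * t ^ k by ring, map_mul, mul_assoc, mul_comm (algebraMap A At (t ^ k)) z,
      map_pow _ t k, hα, ← map_mul, mul_assoc, hs', map_zero]
  have hφalg : ∀ i (c : A), φ i (algebraMap A (B i) c) = algebraMap A (K i) c := fun i c => by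
    rw [IsScalarTower.algebraMap_apply A (Localization.AtPrime (q i)) (B i), AlgHom.commutes,
      ← IsScalarTower.algebraMap_apply]
  have hn : ∀ i d, ∃ α, algebraMap A (K i) (t ^ n) * φ i d = algebraMap (Localization.AtPrime (q i)) (K i) α :=
    fun i d => by
    obtain ⟨α, hα⟩ := hk' i d
    refine ⟨α, ?_⟩
    rw [← (φ i).commutes α, hα, map_smul, Algebra.smul_def, ← map_pow (algebraMap A (Localization.AtPrime (q i))),
      ← IsScalarTower.algebraMap_apply A]
  let φA : ∀ i, B i →ₐ[A] K i := fun i => { (φ i).toRingHom with commutes' := hφalg i }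
  let tinv : At := ↑((htu.pow n).unit⁻¹)
  have htinv : algebraMap A At (t ^ n) * tinv = 1 := by rw [map_pow, IsUnit.mul_val_inv]
  let P : Submodule A At := LinearMap.range (LinearMap.toSpanSingleton A At tinv)
  let L : Submodule A At := P ⊓ ⨅ i, (LinearMap.range (φA i).toLinearMap).comap (j i).toLinearMap
  have hAL : ∀ a, algebraMap A At a ∈ L := fun a => by
    refine ⟨⟨a * t ^ n, ?_⟩, (Submodule.mem_iInf _).mpr fun i => ⟨algebraMap A (B i) a, ?_⟩⟩
    · show (a * t ^ n) • tinv = _
      rw [Algebra.smul_def, map_mul, mul_assoc, htinv, mul_one]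
    · show φA i _ = j i _
      rw [AlgHom.commutes, AlgHom.commutes]
  have hLj : ∀ x ∈ L, ∀ i, ∃ d, φA i d = j i x := fun x hx i => (Submodule.mem_iInf _).mp hx.2 i
  have hL : ∀ i (d : B i), ∃ x ∈ L, ∃ s ∉ q i, j i x = algebraMap A (K i) s * φA i d := fun i d => by
    obtain ⟨α, hα⟩ := hn i d
    obtain ⟨⟨α₀, s₀, hs₀⟩, hα₀⟩ := IsLocalization.surj (q i).primeCompl α
    have hN : ∀ l, ∃ N, ∀ x ∈ q l ^ N, algebraMap A (Localization.AtPrime (q l)) x ∈
        Ideal.span {algebraMap A (Localization.AtPrime (q l)) t ^ n} := fun l => by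
      obtain ⟨N, hN⟩ := TameLib.exists_pow_maximalIdeal_le (pow_mem (map_mem_nonZeroDivisors (q l) htnz) n)
      refine ⟨N, fun x hx => hN ?_⟩
      rw [← Localization.AtPrime.map_eq_maximalIdeal, ← Ideal.map_pow]
      exact Ideal.mem_map_of_mem _ hx
    choose N hN using hN
    choose s hs hs' using fun l : {l // l ≠ i} => (SetLike.not_le_iff_exists.mp fun h : q l.1 ^ N l.1 ≤ q i =>
      l.2 (hle i l.1 ((inferInstance : (q i).IsPrime).le_of_pow_le h)))
    let σ := ∏ l, s l
    have hσ : σ ∉ q i := fun h => by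
      obtain ⟨l, -, hl⟩ := Ideal.IsPrime.prod_mem_iff.mp h
      exact hs' l hl
    have hjt : ∀ l, algebraMap A (K l) (t ^ n) * j l tinv = 1 := fun l => by
      rw [← (j l).commutes, ← map_mul, htinv, map_one]
    let x₀ : At := algebraMap A At (σ * α₀) * tinv
    have hx₀ : j i x₀ = algebraMap A (K i) (σ * s₀) * φA i d := by
      refine ((htK i).pow n).mul_left_cancel ?_
      show _ = _ * (_ * φ i d)
      rw [← map_pow, map_mul (j i), AlgHom.commutes, mul_left_comm, hjt, mul_one, mul_left_comm, hα,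
        map_mul (algebraMap A (K i)) σ α₀, map_mul (algebraMap A (K i)) σ s₀, mul_assoc,
        IsScalarTower.algebraMap_apply A (Localization.AtPrime (q i)) (K i) s₀,
        IsScalarTower.algebraMap_apply A (Localization.AtPrime (q i)) (K i) α₀, ← map_mul, mul_comm _ α, hα₀]
    refine ⟨x₀, ⟨⟨σ * α₀, Algebra.smul_def _ _⟩, (Submodule.mem_iInf _).mpr fun l => ?_⟩, σ * s₀,
      fun h => ((inferInstance : (q i).IsPrime).mem_or_mem h).elim hσ hs₀, hx₀⟩
    show j l x₀ ∈ LinearMap.range (φA l).toLinearMap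
    by_cases h : l = i
    · subst h
      refine ⟨algebraMap A (B l) (σ * s₀) * d, ?_⟩
      show φA l _ = _
      rw [hx₀, map_mul (φA l), AlgHom.commutes]
    · obtain ⟨c, hc⟩ := Finset.dvd_prod_of_mem s (Finset.mem_univ (⟨l, h⟩ : {l // l ≠ i}))
      obtain ⟨w, hw⟩ := Ideal.mem_span_singleton'.mp (hN l _ (hs ⟨l, h⟩))
      refine ⟨algebraMap (Localization.AtPrime (q l)) _ (w * algebraMap A _ (c * α₀)), ?_⟩
      show φ l _ = _
      refine ((htK l).pow n).mul_left_cancel ?_
      rw [AlgHom.commutes, map_mul (j l), AlgHom.commutes, ← map_pow, mul_left_comm (algebraMap A (K l) (t ^ n)) _ (j l tinv),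
        hjt, mul_one, map_mul (algebraMap (Localization.AtPrime (q l)) (K l)),
        ← IsScalarTower.algebraMap_apply A (Localization.AtPrime (q l)) (K l),
        show σ = s ⟨l, h⟩ * c from hc, mul_assoc, map_mul (algebraMap A (K l)) (s ⟨l, h⟩) _,
        IsScalarTower.algebraMap_apply A (Localization.AtPrime (q l)) (K l) (s ⟨l, h⟩), ← hw,
        map_mul (algebraMap (Localization.AtPrime (q l)) (K l)),
        map_pow (algebraMap (Localization.AtPrime (q l)) (K l)),
        ← IsScalarTower.algebraMap_apply, ← map_pow]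
      ring
  have hPfg : P.FG := by
    rw [show P = Submodule.map (LinearMap.toSpanSingleton A At tinv) ⊤ from (Submodule.map_top _).symm]
    exact Module.Finite.fg_top.map _
  have hLfg : L.FG := hPfg.of_le inf_le_left
  have hLt : ∀ x ∈ L, ∃ a, algebraMap A At (t ^ n) * x = algebraMap A At a := fun x hx => by
    obtain ⟨a, rfl⟩ := hx.1
    refine ⟨a, ?_⟩
    show _ * (a • tinv) = _
    rw [Algebra.smul_def, mul_left_comm, htinv, mul_one]
  -- the product of two elements of `L` lies in `L` away from the closed point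
  let LL := L * L
  haveI : Module.Finite A LL := Module.Finite.iff_fg.mpr (hLfg.mul hLfg)
  let W := ↥LL ⧸ L.submoduleOf LL
  have hWt : ∀ w : W, t ^ (2 * n) • w = 0 := fun w => by
    obtain ⟨⟨w, hw⟩, rfl⟩ := Submodule.mkQ_surjective _ w
    rw [← map_smul, Submodule.mkQ_apply, Submodule.Quotient.mk_eq_zero]
    show t ^ (2 * n) • w ∈ L
    refine Submodule.mul_induction_on hw (fun x hx y hy => ?_) fun x y hx hy => by rw [smul_add]; exact add_mem hx hy
    obtain ⟨a, ha⟩ := hLt x hx
    obtain ⟨b, hb⟩ := hLt y hy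
    have e : t ^ (2 * n) • (x * y) = algebraMap A At (a * b) := by
      rw [Algebra.smul_def, map_mul _ a b, ← ha, ← hb, two_mul, pow_add, map_mul]; ring
    rw [e]; exact hAL _
  have hWq : ∀ i (w : W), ∃ s ∉ q i, s • w = 0 := fun i w => by
    obtain ⟨⟨w, hw⟩, rfl⟩ := Submodule.mkQ_surjective _ w
    suffices h : ∃ s ∉ q i, s • w ∈ L by
      obtain ⟨s, hs, hsw⟩ := h
      exact ⟨s, hs, by rw [← map_smul, Submodule.mkQ_apply, Submodule.Quotient.mk_eq_zero]; exact hsw⟩
    obtain ⟨d, hd⟩ : ∃ d, φA i d = j i w := by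
      refine Submodule.mul_induction_on hw (fun x hx y hy => ?_) fun x y hx hy => ?_
      · obtain ⟨dx, hdx⟩ := hLj x hx i
        obtain ⟨dy, hdy⟩ := hLj y hy i
        exact ⟨dx * dy, by rw [map_mul, map_mul, hdx, hdy]⟩
      · obtain ⟨dx, hdx⟩ := hx
        obtain ⟨dy, hdy⟩ := hy
        exact ⟨dx + dy, by rw [map_add, map_add, hdx, hdy]⟩
    obtain ⟨x, hx, s, hs, hxs⟩ := hL i d
    obtain ⟨σ, hσ, hz⟩ := hjker i (s • w - x) (by
      rw [map_sub, Algebra.smul_def, map_mul (j i), AlgHom.commutes, hxs, hd, sub_self])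
    refine ⟨σ * s, fun h => ((inferInstance : (q i).IsPrime).mem_or_mem h).elim hσ hs, ?_⟩
    rw [smul_sub, sub_eq_zero] at hz
    rw [mul_smul, hz]
    exact L.smul_mem σ hx
  obtain ⟨M, hM⟩ : ∃ M, maximalIdeal A ^ M ≤ Module.annihilator A W := by
    refine Ideal.exists_pow_le_of_le_radical_of_fg ?_ (IsNoetherian.noetherian _)
    rw [Ideal.radical_eq_sInf]
    refine le_sInf fun p hp => ?_
    obtain ⟨hp1, hp2⟩ := hp
    haveI := hp2
    rcases hV p hp2 (hp2.mem_of_pow_mem _ (hp1 (Module.mem_annihilator.mpr hWt))) with h | ⟨i, rfl⟩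
    · exact h.ge
    · exfalso
      have hsupp : (⟨q i, hp2⟩ : PrimeSpectrum A) ∈ Module.support A W := by
        rw [Module.support_eq_zeroLocus]
        exact hp1
      obtain ⟨w, hw⟩ := Module.mem_support_iff'.mp hsupp
      obtain ⟨s, hs, hs'⟩ := hWq i w
      exact hw s hs hs'
  let I := maximalIdeal A ^ M
  let C₀ : Submodule A At := LinearMap.range (Algebra.linearMap A At) ⊔ I • L
  have hIL : ∀ z ∈ I • L, z ∈ L := fun z hz => (Submodule.smul_le_right : I • L ≤ L) hz
  have hmul : ∀ x y, x ∈ C₀ → y ∈ C₀ → x * y ∈ C₀ := fun x y hx hy => by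
    obtain ⟨_, ⟨a, rfl⟩, x', hx', rfl⟩ := Submodule.mem_sup.mp hx
    obtain ⟨_, ⟨b, rfl⟩, y', hy', rfl⟩ := Submodule.mem_sup.mp hy
    simp only [Algebra.linearMap_apply]
    rw [add_mul, mul_add, mul_add, ← map_mul, ← Algebra.smul_def, mul_comm x' (algebraMap A At b), ← Algebra.smul_def]
    refine add_mem (add_mem (Submodule.mem_sup_left ⟨_, rfl⟩) (Submodule.mem_sup_right (Submodule.smul_mem _ _ hy')))
      (add_mem (Submodule.mem_sup_right (Submodule.smul_mem _ _ hx')) (Submodule.mem_sup_right ?_))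
    refine Submodule.smul_induction_on hx' (fun c hc z hz => ?_) fun u v hu hv => by rw [add_mul]; exact add_mem hu hv
    rw [smul_mul_assoc]
    refine Submodule.smul_mem_smul hc ?_
    refine Submodule.smul_induction_on hy' (fun e he w hw => ?_) fun u v hu hv => by rw [mul_add]; exact add_mem hu hv
    rw [mul_smul_comm]
    have h := Module.mem_annihilator.mp (hM he) (Submodule.Quotient.mk ⟨z * w, Submodule.mul_mem_mul hz hw⟩)
    rw [← Submodule.Quotient.mk_smul, Submodule.Quotient.mk_eq_zero] at h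
    exact h
  let C : Subalgebra A At := C₀.toSubalgebra (Submodule.mem_sup_left ⟨1, by simp⟩) hmul
  have hC₀fg : C₀.FG := by
    refine Submodule.FG.sup ?_ (hLfg.of_le Submodule.smul_le_right)
    rw [← Submodule.map_top]
    exact Module.Finite.fg_top.map _
  have hCfin : Module.Finite A C := Module.Finite.iff_fg.mpr hC₀fg
  have hCL : ∀ c : C, (c : At) ∈ L := fun c => by
    obtain ⟨_, ⟨a, rfl⟩, x, hx, h⟩ := Submodule.mem_sup.mp c.2
    rw [← h]
    exact add_mem (hAL a) (hIL x hx)
  have hext : CycAlg.IsFinExt A C (Ideal.span {t}) := by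
    refine ⟨fun a b h => ?_, hCfin, n, fun x hx c => ?_⟩
    · exact IsLocalization.injective At (Submonoid.powers_le.mpr htnz) (congrArg Subtype.val h)
    · rw [Ideal.span_singleton_pow, Ideal.mem_span_singleton'] at hx
      obtain ⟨e, rfl⟩ := hx
      obtain ⟨a, ha⟩ := hLt c (hCL c)
      refine ⟨e * a, Subtype.ext ?_⟩
      show algebraMap A At (e * a) = (e * t ^ n) • (c : At)
      rw [Algebra.smul_def, map_mul _ e a, map_mul, mul_assoc, ha]
  refine ⟨C, inferInstance, inferInstance, hext, fun i => ?_⟩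
  let π₀ : C →ₐ[A] K i := (j i).comp C.val
  have hrange : ∀ c, π₀ c ∈ (φA i).range := fun c => hLj c (hCL c) i
  let π : C →ₐ[A] B i := (AlgEquiv.ofInjective (φA i) (hφ i)).symm.toAlgHom.comp (π₀.codRestrict _ hrange)
  have hπ : ∀ c, φA i (π c) = j i (c : At) := fun c =>
    congrArg Subtype.val ((AlgEquiv.ofInjective (φA i) (hφ i)).apply_symm_apply _)
  let _ : Algebra C (B i) := π.toRingHom.toAlgebra
  haveI : IsScalarTower A C (B i) := IsScalarTower.of_algebraMap_eq fun a => (π.commutes a).symm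
  have hunit : ∀ s ∉ q i, IsUnit (algebraMap A (B i) s) := fun s hs => by
    rw [IsScalarTower.algebraMap_apply A (Localization.AtPrime (q i)) (B i)]
    exact (IsLocalization.map_units _ (⟨s, hs⟩ : (q i).primeCompl)).map _
  haveI : IsLocalization (Algebra.algebraMapSubmonoid C (q i).primeCompl) (B i) := by
    refine ⟨?_, fun d => ?_, fun {x y} hxy => ?_⟩
    · rintro ⟨_, s, hs, rfl⟩
      show IsUnit (π (algebraMap A C s))
      rw [AlgHom.commutes]
      exact hunit s hs
    · obtain ⟨x, hx, s, hs, hxs⟩ := hL i d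
      have hIle : ¬ I ≤ q i := fun h => hqm i ((maximalIdeal.isMaximal A).eq_of_le
        (Ideal.IsPrime.ne_top inferInstance) ((inferInstance : (q i).IsPrime).le_of_pow_le h)).symm
      obtain ⟨z, hz, hzq⟩ := SetLike.not_le_iff_exists.mp hIle
      refine ⟨⟨⟨z • x, Submodule.mem_sup_right (Submodule.smul_mem_smul hz hx)⟩,
        ⟨_, z * s, fun h => ((inferInstance : (q i).IsPrime).mem_or_mem h).elim hzq hs, rfl⟩⟩, hφ i ?_⟩
      show φA i (d * π (algebraMap A C (z * s))) = φA i (π ⟨z • x, _⟩)
      rw [hπ, AlgHom.commutes, map_mul (φA i), AlgHom.commutes]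
      show _ = j i (z • x)
      rw [Algebra.smul_def, map_mul (j i), AlgHom.commutes, hxs,
        map_mul (algebraMap A (K i))]
      ring
    · have h0 : j i ((x : At) - (y : At)) = 0 := by
        rw [map_sub, ← hπ, ← hπ, show π x = π y from hxy, sub_self]
      obtain ⟨s, hs, hs'⟩ := hjker i _ h0
      refine ⟨⟨_, s, hs, rfl⟩, Subtype.ext ?_⟩
      rw [smul_sub, sub_eq_zero, Algebra.smul_def, Algebra.smul_def] at hs'
      exact hs'
  haveI : Algebra.IsPushout A (Localization.AtPrime (q i)) C (B i) :=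
    (Algebra.isPushout_of_isLocalization (q i).primeCompl (Localization.AtPrime (q i)) C (B i)).symm
  exact ⟨Algebra.IsPushout.equiv A (Localization.AtPrime (q i)) C (B i)⟩

end Groth.Agent.TameKey
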