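import Groth.Agent.TameKey.Herb
import Groth.Agent.IntThLib.Lattice
import Mathlib.RingTheory.LocalRing.ResidueField.Ideal
import Mathlib.RingTheory.Norm.Defs
import Mathlib.RingTheory.LocalRing.ResidueField.Basic

/-! The colength of a unit on a lattice in a finite length module is the order of the norm. -/

set_option linter.unusedSectionVars false
set_option linter.style.haveILetI false

namespace Groth.Agent.TameKey

open IsLocalRing

universe u

variable {A : Type u} [CommRing A] [IsLocalRing A] [IsNoetherianRing A] (q : Ideal A) [q.IsPrime]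
  [Ring.KrullDimLE 1 (A ⧸ q)]
  {S : Type u} [CommRing S] [IsLocalRing S] [Algebra A S] [Algebra q.ResidueField (ResidueField S)]
  [IsScalarTower A q.ResidueField (ResidueField S)] [Module.Finite q.ResidueField (ResidueField S)]

/-- The order of the norm. -/
noncomputable def ordN (x : ResidueField S) : ℤ :=
  CycAlg.ordFrac (A ⧸ q) q.ResidueField (Algebra.norm q.ResidueField x)

theorem ordN_mul {x y : ResidueField S} (hx : x ≠ 0) (hy : y ≠ 0) : ordN q (x * y) = ordN q x + ordN q y := by
  unfold ordN
  rw [map_mul]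
  exact IntThLib.ordFrac_mul (Algebra.norm_ne_zero_iff.mpr hx) (Algebra.norm_ne_zero_iff.mpr hy)

theorem ordN_one : ordN q (1 : ResidueField S) = 0 := by
  unfold ordN
  rw [map_one]
  exact IntThLib.ordFrac_one

theorem ordN_pow {x : ResidueField S} (hx : x ≠ 0) (n : ℕ) : ordN q (x ^ n) = n * ordN q x := by
  induction n with
  | zero => rw [pow_zero, ordN_one, Nat.cast_zero, zero_mul]
  | succ n ih => rw [pow_succ, ordN_mul q (pow_ne_zero _ hx) hx, ih, Nat.cast_succ, add_mul, one_mul]

theorem ordN_inv {x : ResidueField S} (hx : x ≠ 0) : ordN q x⁻¹ = -ordN q x := by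
  have h := ordN_mul q (inv_ne_zero hx) hx
  rw [inv_mul_cancel₀ hx, ordN_one] at h
  linarith

theorem ordN_neg_one_pow (n : ℕ) : ordN q ((-1 : ResidueField S) ^ n) = 0 := by
  have h := ordN_mul q (x := (-1 : ResidueField S)) (y := -1) (by simp) (by simp)
  rw [neg_mul_neg, one_mul, ordN_one] at h
  rw [ordN_pow q (by simp), show ordN q (-1 : ResidueField S) = 0 by omega, mul_zero]

/-- A lattice in a finite extension of the residue field. -/
theorem colen_base {X : Type u} [AddCommGroup X] [Module A X] [Module.Finite A X] (ι : X →ₗ[A] ResidueField S)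
    (hι : Function.Injective ι) (hspan : ∀ w, ∃ s ∉ q, algebraMap A (ResidueField S) s * w ∈ LinearMap.range ι)
    {x : ResidueField S} (hx : x ≠ 0) (f : X →ₗ[A] X) (hf : ∀ z, ι (f z) = x * ι z) :
    colen A f ≠ ⊤ ∧ ((colen A f).toNat : ℤ) = ordN q x := by
  let K := q.ResidueField
  let L := ResidueField S
  let _ : Algebra (A ⧸ q) L := ((algebraMap K L).comp (algebraMap (A ⧸ q) K)).toAlgebra
  haveI : IsScalarTower (A ⧸ q) K L := IsScalarTower.of_algebraMap_eq fun _ => rfl
  haveI : IsScalarTower A (A ⧸ q) L := IsScalarTower.of_algebraMap_eq fun a => by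
    rw [IsScalarTower.algebraMap_apply A K L, IsScalarTower.algebraMap_apply A (A ⧸ q) K]
    rfl
  let M : Submodule (A ⧸ q) L :=
    { carrier := LinearMap.range ι
      add_mem' := (LinearMap.range ι).add_mem
      zero_mem' := (LinearMap.range ι).zero_mem
      smul_mem' := fun c z hz => by
        obtain ⟨a, rfl⟩ := Ideal.Quotient.mk_surjective c
        show Ideal.Quotient.mk q a • z ∈ LinearMap.range ι
        rw [show Ideal.Quotient.mk q a = algebraMap A (A ⧸ q) a from rfl, algebraMap_smul]
        exact (LinearMap.range ι).smul_mem a hz }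
  haveI : Submodule.IsLattice K M := by
    refine ⟨?_, ?_⟩
    · obtain ⟨T, hT⟩ := (Module.Finite.fg_top (R := A) (M := X)).map ι
      refine ⟨T, le_antisymm (Submodule.span_le.mpr fun z hz => ?_) fun z hz => ?_⟩
      · show z ∈ LinearMap.range ι
        rw [← Submodule.map_top, ← hT]
        exact Submodule.subset_span hz
      · have hz' : z ∈ Submodule.span A (T : Set L) := by
          rw [hT, Submodule.map_top]
          exact hz
        exact Submodule.span_le_restrictScalars A (A ⧸ q) _ hz'
    · refine eq_top_iff.mpr fun w _ => ?_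
      obtain ⟨s, hs, hw⟩ := hspan w
      have hs0 : algebraMap A K s ≠ 0 := mt Ideal.algebraMap_residueField_eq_zero.mp hs
      have h1 : algebraMap A L s * w ∈ Submodule.span K (M : Set L) := Submodule.subset_span hw
      rw [IsScalarTower.algebraMap_apply A K L, ← Algebra.smul_def, Submodule.smul_mem_iff _ hs0] at h1
      exact h1
  let φ : L →ₗ[K] L := Algebra.lmul K L x
  have hdet : LinearMap.det φ ≠ 0 := by
    rw [← Algebra.norm_apply]
    exact Algebra.norm_ne_zero_iff.mpr hx
  haveI := IntThLib.isLattice_map M φ (LinearMap.equivOfDetNeZero φ hdet).surjective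
  have hle : M.map (φ.restrictScalars (A ⧸ q)) ≤ M := by
    rintro _ ⟨_, ⟨z, rfl⟩, rfl⟩
    exact ⟨f z, hf z⟩
  let eM : X ≃+ M :=
    AddEquiv.ofBijective
      ({ toFun := fun z => ⟨ι z, z, rfl⟩
         map_zero' := Subtype.ext (map_zero ι)
         map_add' := fun a b => Subtype.ext (map_add ι a b) } : X →+ M)
      ⟨fun a b h => hι (congrArg Subtype.val h), fun ⟨z, a, ha⟩ => ⟨a, Subtype.ext ha⟩⟩
  let Q := ↥M ⧸ (M.map (φ.restrictScalars (A ⧸ q))).submoduleOf M
  let g : X →ₗ[A] Q :=
    { toFun := fun z => Submodule.Quotient.mk (eM z)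
      map_add' := fun a b => by rw [map_add, Submodule.Quotient.mk_add]
      map_smul' := fun a z => by
        rw [RingHom.id_apply, ← Submodule.Quotient.mk_smul]
        exact congrArg _ (Subtype.ext (map_smul ι a z)) }
  have hg : Function.Surjective g := fun z => by
    obtain ⟨z, rfl⟩ := Submodule.mkQ_surjective _ z
    obtain ⟨z, rfl⟩ := eM.surjective z
    exact ⟨z, rfl⟩
  have hker : LinearMap.ker g = LinearMap.range f := by
    ext z
    refine (Submodule.Quotient.mk_eq_zero _).trans ?_
    show ι z ∈ M.map (φ.restrictScalars (A ⧸ q)) ↔ _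
    constructor
    · rintro ⟨_, ⟨w, rfl⟩, hw⟩
      exact ⟨w, hι ((hf w).trans hw)⟩
    · rintro ⟨w, rfl⟩
      exact ⟨ι w, ⟨w, rfl⟩, (hf w).symm⟩
  have e : colen A f = IntThLib.relLen (A ⧸ q) M (M.map (φ.restrictScalars (A ⧸ q))) := by
    rw [colen, ((Submodule.quotEquivOfEq _ _ hker.symm).trans (g.quotKerEquivOfSurjective hg)).length_eq]
    exact Module.length_eq_of_surjective (S := A) (R := A ⧸ q) Ideal.Quotient.mk_surjective
  refine ⟨?_, ?_⟩
  · rw [e]
    exact IntThLib.relLen_lattice_ne_top (K := K) Submodule.IsLattice.fg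
  · rw [e, ← IntThLib.dist_of_le hle, IntThLib.dist_map_eq_ordFrac_det M φ hdet, ordN, Algebra.norm_apply]

variable [IsNoetherianRing S]

theorem colen_eq {W : Type u} [AddCommGroup W] [Module S W] (hW : IsFiniteLength S W) :
    ∀ [Module A W] [IsScalarTower A S W] {X : Type u} [AddCommGroup X] [Module A X] [Module.Finite A X]
      (ι : X →ₗ[A] W), Function.Injective ι → (∀ w, ∃ s ∉ q, s • w ∈ LinearMap.range ι) →
      ∀ (x : Sˣ) (f : X →ₗ[A] X), (∀ z, ι (f z) = (x : S) • ι z) →
        colen A f ≠ ⊤ ∧ ((colen A f).toNat : ℤ) = ((Module.length S W).toNat : ℤ) * ordN q (residue S (x : S)) := by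
  induction hW with
  | @of_subsingleton W _ _ _ =>
    intro _ _ X _ _ _ ι hι _ x f _
    haveI : Subsingleton X := hι.subsingleton
    haveI : Subsingleton (X ⧸ LinearMap.range f) := (Submodule.mkQ_surjective _).subsingleton
    rw [colen, Module.length_eq_zero, Module.length_eq_zero]
    simp
  | @of_simple_quotient W _ _ W' hs hfl ih =>
    intro _ _ X _ _ _ ι hι hspan x f hf
    obtain ⟨m, hm, ⟨e⟩⟩ := isSimpleModule_iff_quot_maximal.mp hs
    obtain rfl := eq_maximalIdeal hm
    let e' : (W ⧸ W') ≃ₗ[S] ResidueField S := e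
    let p : W →ₗ[A] ResidueField S := (e'.toLinearMap ∘ₗ W'.mkQ).restrictScalars A
    have hp : ∀ w, p w = 0 ↔ w ∈ W' := fun w => by
      show e' (Submodule.Quotient.mk w) = 0 ↔ _
      rw [e'.map_eq_zero_iff, Submodule.Quotient.mk_eq_zero]
    have hps : Function.Surjective p := e'.surjective.comp W'.mkQ_surjective
    have hpsmul : ∀ (c : S) w, p (c • w) = residue S c * p w := fun c w => by
      show e' (W'.mkQ (c • w)) = _
      rw [map_smul, map_smul, Algebra.smul_def]
      rfl
    let p' := (p ∘ₗ ι).rangeRestrict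
    let X' := LinearMap.ker (p ∘ₗ ι)
    let ι' : X' →ₗ[A] W' :=
      { toFun := fun z => ⟨ι z.1, (hp _).mp z.2⟩
        map_add' := fun a b => Subtype.ext (map_add ι a.1 b.1)
        map_smul' := fun a z => Subtype.ext (map_smul ι a z.1) }
    have hfX' : ∀ z ∈ X', f z ∈ X' := fun z hz => by
      show p (ι (f z)) = 0
      rw [hf, hpsmul, show p (ι z) = 0 from hz, mul_zero]
    have hfX'' : ∀ z, residue S (x : S) * (p ∘ₗ ι) z = (p ∘ₗ ι) (f z) := fun z => by
      rw [LinearMap.comp_apply, LinearMap.comp_apply, hf, hpsmul]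
    let f'' : LinearMap.range (p ∘ₗ ι) →ₗ[A] LinearMap.range (p ∘ₗ ι) :=
      { toFun := fun z => ⟨residue S (x : S) * z.1, by
          obtain ⟨_, w, rfl⟩ := z
          exact ⟨f w, (hfX'' w).symm⟩⟩
        map_add' := fun a b => Subtype.ext (mul_add _ _ _)
        map_smul' := fun a z => Subtype.ext (mul_smul_comm a _ _) }
    have hres : residue S (x : S) ≠ 0 := fun h =>
      (mem_maximalIdeal _).mp ((residue_eq_zero_iff _).mp h) x.isUnit
    have hf''inj : Function.Injective f'' := fun a b h =>
      Subtype.ext (mul_left_cancel₀ hres (congrArg Subtype.val h))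
    have hadd := colen_exact (M := X) (i := X'.subtype) (p := p') (Submodule.injective_subtype _)
      (LinearMap.surjective_rangeRestrict _) (LinearMap.exact_iff.mpr (by
        rw [LinearMap.ker_rangeRestrict, Submodule.range_subtype]))
      (f' := f.restrict hfX') (f := f) (f'' := f'') (fun _ => rfl)
      (fun z => Subtype.ext (hfX'' z).symm) hf''inj
    haveI : Module.Finite A X' := Module.Finite.iff_fg.mpr (IsNoetherian.noetherian X')
    obtain ⟨a1, a2⟩ := ih (X := X') ι' (fun a b h => Subtype.ext (hι (congrArg Subtype.val h))) (fun w => by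
      obtain ⟨s, hs1, z, hz⟩ := hspan w.1
      refine ⟨s, hs1, ⟨z, (hp _).mpr ?_⟩, Subtype.ext hz⟩
      rw [hz, ← algebraMap_smul S s w.1]
      exact W'.smul_mem _ w.2) x (f.restrict hfX') (fun z => Subtype.ext (hf z.1))
    haveI : Module.Finite A (LinearMap.range (p ∘ₗ ι)) := Module.Finite.range _
    obtain ⟨b1, b2⟩ := colen_base q (LinearMap.range (p ∘ₗ ι)).subtype (Submodule.injective_subtype _)
      (fun w => by
        obtain ⟨w, rfl⟩ := hps w
        obtain ⟨s, hs1, z, hz⟩ := hspan w
        refine ⟨s, hs1, ⟨_, z, rfl⟩, ?_⟩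
        show p (ι z) = _
        rw [hz, map_smul, Algebra.smul_def]) hres f'' (fun _ => rfl)
    refine ⟨hadd ▸ WithTop.add_ne_top.mpr ⟨a1, b1⟩, ?_⟩
    have hlen : Module.length S W = Module.length S W' + 1 := by
      rw [Module.length_eq_add_of_exact W'.subtype W'.mkQ (Submodule.injective_subtype _) (Submodule.mkQ_surjective _)
        (LinearMap.exact_subtype_mkQ W')]
      congr 1
      exact Module.length_eq_one _ _
    rw [hadd, ENat.toNat_add a1 b1, hlen,
      ENat.toNat_add (Module.length_ne_top_iff.mpr hfl) ENat.one_ne_top, ENat.toNat_one]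
    push_cast
    rw [a2, b2]
    ring

end Groth.Agent.TameKey
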