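import Groth.Agent.CycLib.Periodic2
import Groth.Agent.CycLib.FinLen
import Mathlib.RingTheory.KrullDimension.Basic

/-! Periodic complexes of endomorphisms: rescaling by injective maps and finite products. -/

set_option linter.unusedSectionVars false

namespace Groth.Agent.TameKey

open CycAlg CycLib.Periodic

universe u v

variable {R : Type u} [CommRing R] {M : Type v} [AddCommGroup M] [Module R M]

/-- The colength of the image of an endomorphism. -/
noncomputable def colen (R : Type u) [CommRing R] {M : Type v} [AddCommGroup M] [Module R M] (f : M →ₗ[R] M) : ℕ∞ :=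
  Module.length R (M ⧸ LinearMap.range f)

section Exact

variable {M' M'' : Type v} [AddCommGroup M'] [Module R M'] [AddCommGroup M''] [Module R M'']

theorem colen_exact {i : M' →ₗ[R] M} {p : M →ₗ[R] M''} (hi : Function.Injective i) (hp : Function.Surjective p)
    (hex : Function.Exact i p) {f' : M' →ₗ[R] M'} {f : M →ₗ[R] M} {f'' : M'' →ₗ[R] M''} (hi' : ∀ x, i (f' x) = f (i x))
    (hp' : ∀ x, p (f x) = f'' (p x)) (hinj : Function.Injective f'') :
    colen R f = colen R f' + colen R f'' := by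
  let i' : (M' ⧸ LinearMap.range f') →ₗ[R] (M ⧸ LinearMap.range f) := Submodule.mapQ _ _ i (by
    rintro _ ⟨x, rfl⟩
    exact ⟨i x, (hi' x).symm⟩)
  let p' : (M ⧸ LinearMap.range f) →ₗ[R] (M'' ⧸ LinearMap.range f'') := Submodule.mapQ _ _ p (by
    rintro _ ⟨x, rfl⟩
    exact ⟨p x, (hp' x).symm⟩)
  refine Module.length_eq_add_of_exact i' p' ?_ ?_ ?_
  · rw [injective_iff_map_eq_zero]
    intro a
    obtain ⟨a, rfl⟩ := Submodule.mkQ_surjective _ a
    intro h
    obtain ⟨y, hy⟩ := (Submodule.Quotient.mk_eq_zero _).mp h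
    have h0 : p y = 0 := hinj (by rw [map_zero, ← hp', hy]; exact hex.apply_apply_eq_zero a)
    obtain ⟨y', rfl⟩ := (hex y).mp h0
    rw [← hi'] at hy
    exact (Submodule.Quotient.mk_eq_zero _).mpr ⟨y', hi hy⟩
  · intro z
    obtain ⟨z, rfl⟩ := Submodule.mkQ_surjective _ z
    obtain ⟨x, rfl⟩ := hp z
    exact ⟨Submodule.mkQ _ x, rfl⟩
  · intro z
    obtain ⟨z, rfl⟩ := Submodule.mkQ_surjective _ z
    constructor
    · intro h
      obtain ⟨w, hw⟩ := (Submodule.Quotient.mk_eq_zero _).mp h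
      obtain ⟨x, rfl⟩ := hp w
      have h0 : p (z - f x) = 0 := by rw [map_sub, hp', hw]; exact sub_self _
      obtain ⟨y, hy⟩ := (hex _).mp h0
      refine ⟨Submodule.mkQ _ y, (Submodule.Quotient.eq _).mpr ⟨-x, ?_⟩⟩
      rw [map_neg, hy]
      abel
    · rintro ⟨y, hy⟩
      obtain ⟨y, rfl⟩ := Submodule.mkQ_surjective _ y
      rw [← hy]
      show Submodule.Quotient.mk (p (i y)) = 0
      rw [hex.apply_apply_eq_zero, Submodule.Quotient.mk_zero]

end Exact

variable (φ ψ : M →ₗ[R] M) (w : M →ₗ[R] M)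

/-- An endomorphism restricted to the image of a commuting one. -/
def onRange (h : w ∘ₗ φ = φ ∘ₗ w) : LinearMap.range φ →ₗ[R] LinearMap.range φ :=
  (w ∘ₗ (LinearMap.range φ).subtype).codRestrict _ fun y => by
    obtain ⟨_, x, rfl⟩ := y
    exact ⟨w x, (LinearMap.congr_fun h x).symm⟩

theorem herbrand_comp (hw : Function.Injective w) (hper : IsPeriodic φ ψ) (hφ : w ∘ₗ φ = φ ∘ₗ w)
    (hfin : FinCoh R φ ψ) (hc : colen R (onRange φ w hφ) ≠ ⊤) :
    FinCoh R (w ∘ₗ φ) ψ ∧
      herbrand R (w ∘ₗ φ) ψ = herbrand R φ ψ - ((colen R (onRange φ w hφ)).toNat : ℤ) := by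
  have hker : LinearMap.ker (w ∘ₗ φ) = LinearMap.ker φ := by
    rw [LinearMap.ker_comp, LinearMap.ker_eq_bot.mpr hw, Submodule.comap_bot]
  have e0 : Module.length R (perH (w ∘ₗ φ) ψ) = Module.length R (perH φ ψ) := by
    refine (Submodule.Quotient.equiv _ _ (LinearEquiv.ofEq _ _ hker) ?_).length_eq
    ext ⟨x, hx⟩
    constructor
    · rintro ⟨⟨y, hy⟩, h, h'⟩
      obtain ⟨z, rfl⟩ := h
      exact ⟨z, congrArg Subtype.val h'⟩
    · rintro ⟨z, hz⟩
      exact ⟨⟨x, hker.ge hx⟩, ⟨z, hz⟩, rfl⟩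
  have h1 : LinearMap.range (w ∘ₗ φ) ≤ LinearMap.range φ := by
    rintro _ ⟨x, rfl⟩
    exact ⟨w x, (LinearMap.congr_fun hφ x).symm⟩
  have h2 : LinearMap.range φ ≤ LinearMap.ker ψ := LinearMap.range_le_ker_iff.mpr hper.2
  have e1 : Module.length R (perH ψ (w ∘ₗ φ)) = Module.length R (perH ψ φ) + colen R (onRange φ w hφ) := by
    let f : (LinearMap.range φ ⧸ LinearMap.range (onRange φ w hφ)) →ₗ[R] perH ψ (w ∘ₗ φ) :=
      Submodule.mapQ _ _ (Submodule.inclusion h2) (by
        rintro _ ⟨⟨_, x, rfl⟩, rfl⟩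
        exact ⟨x, rfl⟩)
    let g : perH ψ (w ∘ₗ φ) →ₗ[R] perH ψ φ := Submodule.factor (by
      intro x hx
      exact h1 hx)
    rw [add_comm]
    refine Module.length_eq_add_of_exact f g ?_ (Submodule.factor_surjective _) ?_
    · rw [injective_iff_map_eq_zero]
      intro a
      obtain ⟨⟨_, x, rfl⟩, rfl⟩ := Submodule.mkQ_surjective _ a
      intro h
      obtain ⟨y, hy⟩ := (Submodule.Quotient.mk_eq_zero _).mp h
      exact (Submodule.Quotient.mk_eq_zero _).mpr ⟨⟨φ y, y, rfl⟩, Subtype.ext hy⟩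
    · intro z
      obtain ⟨⟨z, hz⟩, rfl⟩ := Submodule.mkQ_surjective _ z
      constructor
      · intro h
        obtain ⟨y, hy⟩ := (Submodule.Quotient.mk_eq_zero _).mp h
        exact ⟨Submodule.mkQ _ ⟨z, y, hy⟩, rfl⟩
      · rintro ⟨y, hy⟩
        obtain ⟨⟨_, x, rfl⟩, rfl⟩ := Submodule.mkQ_surjective _ y
        rw [← hy]
        exact (Submodule.Quotient.mk_eq_zero _).mpr ⟨x, rfl⟩
  refine ⟨⟨e0.trans_lt hfin.1, ?_⟩, ?_⟩
  · rw [e1]
    exact WithTop.add_lt_top.mpr ⟨hfin.2, lt_top_iff_ne_top.mpr hc⟩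
  · unfold herbrand
    rw [e0, e1, ENat.toNat_add hfin.2.ne hc]
    push_cast
    ring

/-- Herbrand quotients of a finite product. -/
theorem herbrand_pi {ι : Type*} [Fintype ι] (N : ι → Type v) [∀ i, AddCommGroup (N i)] [∀ i, Module R (N i)]
    (f g : ∀ i, N i →ₗ[R] N i) (hfin : ∀ i, FinCoh R (f i) (g i)) :
    FinCoh R (LinearMap.pi fun i => f i ∘ₗ LinearMap.proj i) (LinearMap.pi fun i => g i ∘ₗ LinearMap.proj i) ∧
      herbrand R (LinearMap.pi fun i => f i ∘ₗ LinearMap.proj i) (LinearMap.pi fun i => g i ∘ₗ LinearMap.proj i) =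
        ∑ i, herbrand R (f i) (g i) := by
  classical
  have key : ∀ f g : ∀ i, N i →ₗ[R] N i,
      Module.length R (perH (LinearMap.pi fun i => f i ∘ₗ LinearMap.proj i)
        (LinearMap.pi fun i => g i ∘ₗ LinearMap.proj i)) = ∑ i, Module.length R (perH (f i) (g i)) := fun f g => by
    rw [← Module.length_pi_of_fintype]
    let F : LinearMap.ker (LinearMap.pi fun i => f i ∘ₗ LinearMap.proj i) →ₗ[R] ∀ i, perH (f i) (g i) :=
      LinearMap.pi fun i => cl (f i) (g i) ∘ₗ ((LinearMap.proj i ∘ₗ Submodule.subtype _).codRestrict _ fun x =>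
        congrFun (LinearMap.mem_ker.mp x.2) i)
    have hF : Function.Surjective F := fun y => by
      choose x hx using fun i => cl_surjective (f i) (g i) (y i)
      exact ⟨⟨fun i => x i, funext fun i => (x i).2⟩, funext fun i => hx i⟩
    refine ((Submodule.quotEquivOfEq _ _ ?_).trans (F.quotKerEquivOfSurjective hF)).length_eq
    ext x
    constructor
    · rintro ⟨y, hy⟩
      exact LinearMap.mem_ker.mpr (funext fun i => cl_eq_zero.mpr ⟨y i, congrFun hy i⟩)
    · intro hx
      choose y hy using fun i => cl_eq_zero.mp (congrFun (LinearMap.mem_ker.mp hx) i)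
      exact ⟨y, funext hy⟩
  have hsum : ∀ f g : ∀ i, N i →ₗ[R] N i, (∀ i, Module.length R (perH (f i) (g i)) < ⊤) →
      ∑ i, Module.length R (perH (f i) (g i)) = ((∑ i, (Module.length R (perH (f i) (g i))).toNat : ℕ) : ℕ∞) :=
    fun f g h => by
      rw [Nat.cast_sum]
      exact Finset.sum_congr rfl fun i _ => (ENat.natCast_toNat (h i).ne).symm
  refine ⟨⟨?_, ?_⟩, ?_⟩
  · rw [key f g, hsum f g fun i => (hfin i).1]; exact ENat.natCast_lt_top _
  · rw [key g f, hsum g f fun i => (hfin i).2]; exact ENat.natCast_lt_top _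
  · unfold herbrand
    rw [key f g, key g f, hsum f g fun i => (hfin i).1, hsum g f fun i => (hfin i).2, ENat.toNat_natCast,
      ENat.toNat_natCast, Finset.sum_sub_distrib]
    push_cast
    rfl

/-- Finite length of a module concentrated at the closed point. -/
theorem length_lt_top_of_torsion [IsNoetherianRing R] [IsLocalRing R] [Module.Finite R M] (q : Ideal R)
    [hq : q.IsPrime] (hdim : Ring.KrullDimLE 1 (R ⧸ q)) {N : ℕ} (hN : ∀ r ∈ q ^ N, ∀ x : M, r • x = 0)
    (hs : ∀ x : M, ∃ s ∉ q, s • x = 0) : Module.length R M < ⊤ := by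
  refine lt_top_iff_ne_top.mpr (CycLib.length_ne_top_of_support fun p hp => ?_)
  have hle : q ≤ p.asIdeal := p.2.le_of_pow_le fun r hr =>
    Module.annihilator_le_of_mem_support hp (Module.mem_annihilator.mpr (hN r hr))
  have hne : p.asIdeal ≠ q := fun h => by
    obtain ⟨x, hx⟩ := Module.mem_support_iff'.mp hp
    obtain ⟨s, hs1, hs2⟩ := hs x
    exact hx s (h ▸ hs1) hs2
  let P := p.asIdeal.map (Ideal.Quotient.mk q)
  haveI hP : P.IsPrime := Ideal.map_isPrime_of_surjective Ideal.Quotient.mk_surjective (by rwa [Ideal.mk_ker])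
  have hcomap : P.comap (Ideal.Quotient.mk q) = p.asIdeal := by
    rw [Ideal.comap_map_of_surjective _ Ideal.Quotient.mk_surjective, sup_eq_left]
    rw [← RingHom.ker_eq_comap_bot, Ideal.mk_ker]
    exact hle
  have hP0 : P ≠ ⊥ := fun h => hne (by rw [← hcomap, h, ← RingHom.ker_eq_comap_bot, Ideal.mk_ker])
  have hmax : P.IsMaximal := by
    refine ((Ring.krullDimLE_one_iff_of_noZeroDivisors (R := R ⧸ q)).mp hdim P hP0 hP)
  have := Ideal.comap_isMaximal_of_surjective (Ideal.Quotient.mk q) Ideal.Quotient.mk_surjective (K := P)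
  rw [hcomap] at this
  exact PrimeSpectrum.ext (IsLocalRing.eq_maximalIdeal this)

end Groth.Agent.TameKey
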