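import Groth.Agent.TameKey.Colen
import Groth.Agent.TameLib.LocSym
import Groth.Agent.TameLib.Push
import Mathlib.RingTheory.OrderOfVanishing.Noetherian

/-! The Herbrand quotient of `(S/(ab), a, b)` on a lattice and the order of the local symbol. -/

set_option linter.unusedSectionVars false
set_option linter.style.haveILetI false

namespace Groth.Agent.TameKey

open IsLocalRing CycAlg CycLib.Periodic

universe u

theorem herbrand_two {R : Type u} [CommRing R] {M : Type u} [AddCommGroup M] [Module R M] (φ ψ w w' : M →ₗ[R] M)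
    (hw : Function.Injective w) (hw' : Function.Injective w') (hper : IsPeriodic φ ψ)
    (h1 : w ∘ₗ φ = φ ∘ₗ w) (h2 : w' ∘ₗ ψ = ψ ∘ₗ w') (hfin : FinCoh R φ ψ)
    (c1 : colen R (onRange φ w h1) ≠ ⊤) (c2 : colen R (onRange ψ w' h2) ≠ ⊤) :
    herbrand R (w ∘ₗ φ) (w' ∘ₗ ψ) = herbrand R φ ψ - ((colen R (onRange φ w h1)).toNat : ℤ) +
      ((colen R (onRange ψ w' h2)).toNat : ℤ) := by
  obtain ⟨f1, e1⟩ := herbrand_comp φ ψ w hw hper h1 hfin c1
  have hper' : IsPeriodic ψ (w ∘ₗ φ) := by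
    refine ⟨?_, by rw [LinearMap.comp_assoc, hper.1, LinearMap.comp_zero]⟩
    rw [h1, ← LinearMap.comp_assoc, hper.2, LinearMap.zero_comp]
  obtain ⟨-, e2⟩ := herbrand_comp ψ (w ∘ₗ φ) w' hw' hper' h2 ⟨f1.2, f1.1⟩ c2
  rw [herbrand_flip (w' ∘ₗ ψ) (w ∘ₗ φ), e2, herbrand_flip (w ∘ₗ φ) ψ, e1]
  ring

variable {A : Type u} [CommRing A] [IsLocalRing A] [IsNoetherianRing A] (q : Ideal A) [q.IsPrime]
  [Ring.KrullDimLE 1 (A ⧸ q)]
  {S : Type u} [CommRing S] [IsLocalRing S] [IsNoetherianRing S] [Ring.KrullDimLE 1 S] [Algebra A S]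
  [Algebra q.ResidueField (ResidueField S)]
  [IsScalarTower A q.ResidueField (ResidueField S)] [Module.Finite q.ResidueField (ResidueField S)]

theorem isUnit_algebraMap {s : A} (hs : s ∉ q) : IsUnit (algebraMap A S s) := by
  by_contra h
  have h1 : algebraMap A (ResidueField S) s = 0 := (residue_eq_zero_iff _).mpr ((mem_maximalIdeal _).mpr h)
  rw [IsScalarTower.algebraMap_apply A q.ResidueField (ResidueField S), map_eq_zero,
    Ideal.algebraMap_residueField_eq_zero] at h1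
  exact hs h1

theorem algebraMap_mem_maximal {x : A} (hx : x ∈ q) : algebraMap A S x ∈ maximalIdeal S := by
  refine (residue_eq_zero_iff _).mp ?_
  show algebraMap A (ResidueField S) x = 0
  rw [IsScalarTower.algebraMap_apply A q.ResidueField (ResidueField S),
    Ideal.algebraMap_residueField_eq_zero.mpr hx, map_zero]

/-- An endomorphism of a lattice given by a scalar. -/
theorem exists_endo {V : Type u} [AddCommGroup V] [Module S V] [Module A V] [IsScalarTower A S V] {X : Type u}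
    [AddCommGroup X] [Module A X] (ι : X →ₗ[A] V) (hι : Function.Injective ι) (c : S)
    (h : ∀ z, c • ι z ∈ LinearMap.range ι) : ∃ f : X →ₗ[A] X, ∀ z, ι (f z) = c • ι z := by
  let g : X →ₗ[A] LinearMap.range ι :=
    (((LinearMap.lsmul S V c).restrictScalars A) ∘ₗ ι).codRestrict _ h
  refine ⟨(LinearEquiv.ofInjective ι hι).symm.toLinearMap ∘ₗ g, fun z => ?_⟩
  exact congrArg Subtype.val ((LinearEquiv.ofInjective ι hι).apply_symm_apply (g z))

section main

variable {π : S} {n : ℕ} {X : Type u} [AddCommGroup X] [Module A X] [Module.Finite A X]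
  (ι : X →ₗ[A] S ⧸ Ideal.span {π ^ n})

theorem exists_pow_kill (hπ : π ∈ nonZeroDivisors S) :
    ∃ N, ∀ r ∈ q ^ N, ∀ y : S ⧸ Ideal.span {π ^ n}, r • y = 0 := by
  obtain ⟨N, hN⟩ := TameLib.exists_pow_maximalIdeal_le (pow_mem hπ n)
  refine ⟨N, fun r hr y => ?_⟩
  obtain ⟨y, rfl⟩ := Ideal.Quotient.mk_surjective y
  rw [Algebra.smul_def, IsScalarTower.algebraMap_apply A S (S ⧸ Ideal.span {π ^ n}), Ideal.Quotient.algebraMap_eq,
    ← map_mul, Ideal.Quotient.eq_zero_iff_mem]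
  refine Ideal.mul_mem_right _ _ (hN ?_)
  have h : (q ^ N).map (algebraMap A S) ≤ maximalIdeal S ^ N := by
    rw [Ideal.map_pow]
    exact Ideal.pow_right_mono (Ideal.map_le_iff_le_comap.mpr fun x hx => algebraMap_mem_maximal q hx) N
  exact h (Ideal.mem_map_of_mem _ hr)

theorem finCoh_mul (hπ : π ∈ nonZeroDivisors S) (hι : Function.Injective ι)
    (hspan : ∀ w, ∃ s ∉ q, s • w ∈ LinearMap.range ι) {c d : S} (φ ψ : X →ₗ[A] X) (hφ : ∀ z, ι (φ z) = c • ι z)
    (hψ : ∀ z, ι (ψ z) = d • ι z) (h1 : ∀ y : S ⧸ Ideal.span {π ^ n}, c • y = 0 → ∃ z, y = d • z)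
    (h2 : ∀ y : S ⧸ Ideal.span {π ^ n}, d • y = 0 → ∃ z, y = c • z) : FinCoh A φ ψ := by
  obtain ⟨N, hN⟩ := exists_pow_kill q (n := n) hπ
  have key : ∀ (c d : S) (φ ψ : X →ₗ[A] X), (∀ z, ι (φ z) = c • ι z) → (∀ z, ι (ψ z) = d • ι z) →
      (∀ y : S ⧸ Ideal.span {π ^ n}, c • y = 0 → ∃ z, y = d • z) → Module.length A (perH φ ψ) < ⊤ := by
    intro c d φ ψ hφ hψ h
    haveI : Module.Finite A (LinearMap.ker φ) := Module.Finite.iff_fg.mpr (IsNoetherian.noetherian _)
    haveI : Module.Finite A (perH φ ψ) := Module.Finite.of_surjective _ (cl_surjective φ ψ)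
    refine length_lt_top_of_torsion q inferInstance (N := N) (fun r hr x => ?_) fun x => ?_
    · obtain ⟨x, rfl⟩ := cl_surjective φ ψ x
      rw [← map_smul, show r • x = 0 from Subtype.ext (hι (by
        rw [SetLike.val_smul, map_smul, hN r hr]
        exact (map_zero ι).symm)), map_zero]
    · obtain ⟨x, rfl⟩ := cl_surjective φ ψ x
      obtain ⟨w, hw⟩ := h (ι x.1) (by rw [← hφ, LinearMap.mem_ker.mp x.2, map_zero])
      obtain ⟨s, hs, z, hz⟩ := hspan w
      refine ⟨s, hs, ?_⟩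
      rw [← map_smul]
      refine cl_eq_zero.mpr ⟨z, hι ?_⟩
      rw [hψ, hz, SetLike.val_smul, map_smul, hw, smul_comm]
  exact ⟨key c d φ ψ hφ hψ h1, key d c ψ φ hψ hφ h2⟩

theorem smul_eq_zero_imp (hπ : π ∈ nonZeroDivisors S) {i j : ℕ} (hij : i + j = n) (u w : Sˣ)
    (y : S ⧸ Ideal.span {π ^ n}) (h : ((u : S) * π ^ i) • y = 0) :
    ∃ z, y = ((w : S) * π ^ j) • z := by
  obtain ⟨y, rfl⟩ := Ideal.Quotient.mk_surjective y
  rw [Algebra.smul_def, Ideal.Quotient.algebraMap_eq, ← map_mul, Ideal.Quotient.eq_zero_iff_mem, mul_assoc,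
    Ideal.unit_mul_mem_iff_mem _ u.isUnit, Ideal.mem_span_singleton'] at h
  obtain ⟨t, ht⟩ := h
  refine ⟨Ideal.Quotient.mk _ (↑w⁻¹ * t), ?_⟩
  rw [Algebra.smul_def, Ideal.Quotient.algebraMap_eq, ← map_mul]
  congr 1
  refine (mul_cancel_left_mem_nonZeroDivisors (pow_mem hπ i)).mp ?_
  rw [show (w : S) * π ^ j * (↑w⁻¹ * t) = ((w : S) * ↑w⁻¹) * (t * π ^ j) by ring, Units.mul_inv, one_mul, ← ht,
    ← hij, pow_add]
  ring

theorem length_range_smul (hπ : π ∈ nonZeroDivisors S) {i j : ℕ} (hij : i + j = n) (u : Sˣ) :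
    Module.length S (LinearMap.range (LinearMap.lsmul S (S ⧸ Ideal.span {π ^ n}) ((u : S) * π ^ i))) =
      Ring.ord S (π ^ j) := by
  let g := (LinearMap.lsmul S (S ⧸ Ideal.span {π ^ n}) ((u : S) * π ^ i)).rangeRestrict ∘ₗ
    Submodule.mkQ (Ideal.span {π ^ n})
  have hg : Function.Surjective g :=
    (LinearMap.surjective_rangeRestrict _).comp (Submodule.mkQ_surjective _)
  have hker : LinearMap.ker g = Ideal.span {π ^ j} := by
    ext c
    rw [LinearMap.mem_ker, Subtype.ext_iff]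
    show ((u : S) * π ^ i) • (Ideal.Quotient.mk (Ideal.span {π ^ n}) c) = 0 ↔ _
    rw [Algebra.smul_def, Ideal.Quotient.algebraMap_eq, ← map_mul, Ideal.Quotient.eq_zero_iff_mem, mul_assoc,
      Ideal.unit_mul_mem_iff_mem _ u.isUnit, Ideal.mem_span_singleton', Ideal.mem_span_singleton', ← hij]
    refine exists_congr fun t => ?_
    rw [pow_add, ← mul_cancel_left_mem_nonZeroDivisors (pow_mem hπ i) (x := t * π ^ j) (y := c)]
    constructor <;> intro h <;> linear_combination h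
  exact ((Submodule.quotEquivOfEq _ _ hker.symm).trans (g.quotKerEquivOfSurjective hg)).length_eq.symm

theorem colen_range (hπ : π ∈ nonZeroDivisors S) (hι : Function.Injective ι)
    (hspan : ∀ w, ∃ s ∉ q, s • w ∈ LinearMap.range ι) {i j : ℕ} (hij : i + j = n) (u : Sˣ) (x : Sˣ)
    (φ w : X →ₗ[A] X) (hφ : ∀ z, ι (φ z) = ((u : S) * π ^ i) • ι z) (hw : ∀ z, ι (w z) = (x : S) • ι z)
    (hc : w ∘ₗ φ = φ ∘ₗ w) :
    colen A (onRange φ w hc) ≠ ⊤ ∧ ((colen A (onRange φ w hc)).toNat : ℤ) =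
      (j * (Ring.ord S π).toNat : ℕ) * ordN q (residue S (x : S)) := by
  let W := LinearMap.range (LinearMap.lsmul S (S ⧸ Ideal.span {π ^ n}) ((u : S) * π ^ i))
  haveI : Module.Finite A (LinearMap.range φ) := Module.Finite.range φ
  let ι' : LinearMap.range φ →ₗ[A] W :=
    { toFun := fun z => ⟨ι z.1, by
        obtain ⟨_, y, rfl⟩ := z
        exact ⟨ι y, (hφ y).symm⟩⟩
      map_add' := fun a b => Subtype.ext (map_add ι a.1 b.1)
      map_smul' := fun a z => Subtype.ext (map_smul ι a z.1) }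
  have hlen : Module.length S W = (j * (Ring.ord S π).toNat : ℕ) := by
    rw [length_range_smul hπ hij u, Ring.ord_pow hπ, nsmul_eq_mul, Nat.cast_mul,
      ENat.natCast_toNat (Ring.ord_ne_top hπ)]
  have hfl : IsFiniteLength S W := Module.length_ne_top_iff.mp (by rw [hlen]; exact ENat.natCast_ne_top _)
  obtain ⟨h1, h2⟩ := colen_eq q hfl ι' (fun a b h => Subtype.ext (hι (congrArg Subtype.val h))) (fun y => by
    obtain ⟨_, y, rfl⟩ := y
    obtain ⟨s, hs, z, hz⟩ := hspan y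
    refine ⟨s, hs, ⟨φ z, z, rfl⟩, Subtype.ext ?_⟩
    show ι (φ z) = s • (((u : S) * π ^ i) • y)
    rw [hφ, hz, smul_comm]) x (onRange φ w hc) (fun z => Subtype.ext (hw z.1))
  refine ⟨h1, ?_⟩
  rw [h2, hlen, ENat.toNat_natCast]

set_option maxHeartbeats 1000000 in
theorem herbrand_local (hπ : π ∈ nonZeroDivisors S) (hι : Function.Injective ι)
    (hspan : ∀ w, ∃ s ∉ q, s • w ∈ LinearMap.range ι) {e f : ℕ} (hef : e + f = n) (u v : Sˣ) {a b : A}
    (ha : algebraMap A S a = (u : S) * π ^ e) (hb : algebraMap A S b = (v : S) * π ^ f) :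
    FinCoh A (a • LinearMap.id : X →ₗ[A] X) (b • LinearMap.id) ∧
      herbrand A (a • LinearMap.id : X →ₗ[A] X) (b • LinearMap.id) =
        -ordN q (TameLib.sval π u v e f) := by
  classical
  have hsm : ∀ (r : A) z, ι (r • z) = algebraMap A S r • ι z := fun r z => by rw [map_smul, algebraMap_smul]
  let φ : X →ₗ[A] X := a • LinearMap.id
  let ψ : X →ₗ[A] X := b • LinearMap.id
  have hφ : ∀ z, ι (φ z) = ((u : S) * π ^ e) • ι z := fun z => (hsm a z).trans (by rw [ha])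
  have hψ : ∀ z, ι (ψ z) = ((v : S) * π ^ f) • ι z := fun z => (hsm b z).trans (by rw [hb])
  have hfin : FinCoh A φ ψ := finCoh_mul q ι hπ hι hspan φ ψ hφ hψ
    (smul_eq_zero_imp hπ hef u v) (smul_eq_zero_imp hπ (by omega) v u)
  refine ⟨hfin, ?_⟩
  show herbrand A φ ψ = _
  have hsval : ordN q (TameLib.sval π u v e f) = ((Ring.ord S π).toNat : ℤ) *
      (f * ordN q (residue S (u : S)) - e * ordN q (residue S (v : S))) := by
    have hu := TameLib.residue_unit_ne_zero u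
    have hv := TameLib.residue_unit_ne_zero v
    have h1 : ((-1 : ResidueField S) ^ (e * f)) ≠ 0 := pow_ne_zero _ (by simp)
    rw [TameLib.sval, ordN_pow q (mul_ne_zero (mul_ne_zero h1 (pow_ne_zero _ hu)) (inv_ne_zero (pow_ne_zero _ hv))),
      ordN_mul q (mul_ne_zero h1 (pow_ne_zero _ hu)) (inv_ne_zero (pow_ne_zero _ hv)),
      ordN_mul q h1 (pow_ne_zero _ hu), ordN_neg_one_pow, ordN_pow q hu, ordN_inv q (pow_ne_zero _ hv),
      ordN_pow q hv]
    ring
  rw [hsval]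
  rcases Nat.eq_zero_or_pos n with hn0 | hn
  · obtain ⟨rfl, rfl⟩ : e = 0 ∧ f = 0 := by omega
    haveI : Subsingleton (S ⧸ Ideal.span {π ^ n}) := Submodule.Quotient.subsingleton_iff.mpr (by
      rw [hn0, pow_zero, Ideal.span_singleton_one])
    haveI : Subsingleton X := hι.subsingleton
    have h0 : Module.length A X = 0 := Module.length_eq_zero
    have hper : IsPeriodic φ ψ := ⟨Subsingleton.elim _ _, Subsingleton.elim _ _⟩
    rw [(of_finite_length hper (by rw [h0]; simp) (by rw [h0]; simp)).2]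
    simp
  -- a common denominator
  obtain ⟨gens, hgens⟩ := (Module.Finite.fg_top (R := A) (M := X))
  have hspan' := hspan
  choose den hden hmem using hspan
  let cs : Finset S := {π, (u : S), (v : S)}
  let s : A := ∏ p ∈ cs ×ˢ gens, den (p.1 • ι p.2)
  have hs : s ∉ q := fun h => by
    obtain ⟨p, -, hp⟩ := Ideal.IsPrime.prod_mem_iff.mp h
    exact hden _ hp
  have hstab : ∀ c ∈ cs, ∀ z, (algebraMap A S s * c) • ι z ∈ LinearMap.range ι := fun c hc z => by
    have hz : z ∈ Submodule.span A (gens : Set X) := hgens ▸ trivial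
    induction hz using Submodule.span_induction with
    | mem z hz =>
      obtain ⟨d, hd⟩ := Finset.dvd_prod_of_mem (fun p : S × X => den (p.1 • ι p.2))
        (Finset.mem_product.mpr ⟨hc, hz⟩ : (c, z) ∈ cs ×ˢ gens)
      rw [mul_smul, algebraMap_smul, show s = d * den (c • ι z) by rw [mul_comm]; exact hd, mul_smul]
      exact Submodule.smul_mem _ _ (hmem _)
    | zero => rw [map_zero, smul_zero]; exact zero_mem _
    | add x y _ _ hx hy => rw [map_add, smul_add]; exact add_mem hx hy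
    | smul r x _ hx => rw [map_smul, smul_comm]; exact Submodule.smul_mem _ _ hx
  let su := (isUnit_algebraMap (S := S) q hs).unit
  obtain ⟨P, hP⟩ := exists_endo ι hι _ (hstab π (by simp [cs]))
  obtain ⟨W₁, hW₁⟩ := exists_endo ι hι _ (hstab u (by simp [cs]))
  obtain ⟨W₂, hW₂⟩ := exists_endo ι hι _ (hstab v (by simp [cs]))
  have hW₁' : ∀ z, ι (W₁ z) = ((su * u : Sˣ) : S) • ι z := hW₁
  have hW₂' : ∀ z, ι (W₂ z) = ((su * v : Sˣ) : S) • ι z := hW₂
  have hPk : ∀ (k : ℕ) z, ι ((P ^ k) z) = (((su ^ k : Sˣ) : S) * π ^ k) • ι z := fun k => by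
    induction k with
    | zero => intro z; simp
    | succ k ih =>
      intro z
      rw [CycLib.Periodic.pow_succ_apply' P k z, hP, ih, smul_smul, pow_succ' su, pow_succ' π, Units.val_mul]
      congr 1
      show algebraMap A S s * π * (((su ^ k : Sˣ) : S) * π ^ k) = (algebraMap A S s * ((su ^ k : Sˣ) : S)) * (π * π ^ k)
      ring
  let wa : X →ₗ[A] X := (s ^ (e + 1)) • LinearMap.id
  let wb : X →ₗ[A] X := (s ^ (f + 1)) • LinearMap.id
  have hwa : ∀ z, ι (wa z) = ((su ^ (e + 1) : Sˣ) : S) • ι z := fun z => (hsm _ z).trans (by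
    rw [map_pow, Units.val_pow_eq_pow_val]; rfl)
  have hwb : ∀ z, ι (wb z) = ((su ^ (f + 1) : Sˣ) : S) • ι z := fun z => (hsm _ z).trans (by
    rw [map_pow, Units.val_pow_eq_pow_val]; rfl)
  have hinj : ∀ (x : Sˣ) (w : X →ₗ[A] X), (∀ z, ι (w z) = (x : S) • ι z) → Function.Injective w :=
    fun x w hw y z h => hι (x.isUnit.smul_left_cancel.mp (by rw [← hw, ← hw, h]))
  have hcomm : ∀ (c d : S) (g h : X →ₗ[A] X), (∀ z, ι (g z) = c • ι z) → (∀ z, ι (h z) = d • ι z) →
      g ∘ₗ h = h ∘ₗ g := fun c d g h hg hh => LinearMap.ext fun z => hι (by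
    rw [LinearMap.comp_apply, LinearMap.comp_apply, hg, hh, hh, hg, smul_comm])
  have hzero : ∀ (c d : S), c * d ∈ Ideal.span {π ^ n} → ∀ (g h : X →ₗ[A] X), (∀ z, ι (g z) = c • ι z) →
      (∀ z, ι (h z) = d • ι z) → g ∘ₗ h = 0 := fun c d hcd g h hg hh => LinearMap.ext fun z => hι (by
    obtain ⟨y, hy⟩ := Ideal.Quotient.mk_surjective (ι z)
    rw [LinearMap.comp_apply, hg, hh, smul_smul, LinearMap.zero_apply, map_zero, ← hy, Algebra.smul_def,
      Ideal.Quotient.algebraMap_eq, ← map_mul, Ideal.Quotient.eq_zero_iff_mem]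
    exact Ideal.mul_mem_right _ _ hcd)
  have hper : IsPeriodic φ ψ := by
    have h : π ^ n = π ^ e * π ^ f := by rw [← pow_add, hef]
    constructor <;> refine hzero _ _ ?_ _ _ (by assumption) (by assumption) <;>
      refine Ideal.mem_span_singleton'.mpr ⟨(u : S) * v, ?_⟩ <;> rw [h] <;> ring
  obtain ⟨ca, ea⟩ := colen_range q ι hπ hι hspan' hef u (su ^ (e + 1)) φ wa hφ hwa (hcomm _ _ _ _ hwa hφ)
  obtain ⟨cb, eb⟩ := colen_range q ι hπ hι hspan' (by omega : f + e = n) v (su ^ (f + 1)) ψ wb hψ hwb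
    (hcomm _ _ _ _ hwb hψ)
  have h1 := herbrand_two φ ψ wa wb (hinj _ _ hwa) (hinj _ _ hwb) hper (hcomm _ _ _ _ hwa hφ)
    (hcomm _ _ _ _ hwb hψ) hfin ca cb
  have hperP : IsPeriodic (P ^ e) (P ^ f) := by
    have h : π ^ n = π ^ e * π ^ f := by rw [← pow_add, hef]
    refine ⟨hzero _ _ ?_ _ _ (hPk e) (hPk f), hzero _ _ ?_ _ _ (hPk f) (hPk e)⟩ <;>
      refine Ideal.mem_span_singleton'.mpr ⟨((su ^ e : Sˣ) : S) * ((su ^ f : Sˣ) : S), ?_⟩ <;> rw [h] <;> ring
  obtain ⟨cc, ec⟩ := colen_range q ι hπ hι hspan' hef (su ^ e) (su * u) (P ^ e) W₁ (hPk e) hW₁'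
    (hcomm _ _ _ _ hW₁' (hPk e))
  obtain ⟨cd, ed⟩ := colen_range q ι hπ hι hspan' (by omega : f + e = n) (su ^ f) (su * v) (P ^ f) W₂ (hPk f) hW₂'
    (hcomm _ _ _ _ hW₂' (hPk f))
  have hPn : P ^ n = 0 := LinearMap.ext fun z => hι (by
    obtain ⟨y, hy⟩ := Ideal.Quotient.mk_surjective (ι z)
    rw [hPk, LinearMap.zero_apply, map_zero, ← hy, Algebra.smul_def,
      Ideal.Quotient.algebraMap_eq, ← map_mul, Ideal.Quotient.eq_zero_iff_mem]
    exact Ideal.mul_mem_right _ _ (Ideal.mul_mem_left _ _ (Ideal.mem_span_singleton_self _)))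
  have hP1 : FinCoh A P (P ^ (n - 1)) := finCoh_mul q ι hπ hι hspan' P (P ^ (n - 1)) hP (hPk (n - 1))
    (fun y hy => smul_eq_zero_imp hπ (by omega : 1 + (n - 1) = n) su _ y (by rw [pow_one]; exact hy))
    (fun y hy => by
      obtain ⟨z, hz⟩ := smul_eq_zero_imp hπ (by omega : (n - 1) + 1 = n) _ su y hy
      exact ⟨z, by rw [pow_one] at hz; exact hz⟩)
  obtain ⟨hPfin, hP0⟩ := CycLib.Periodic.pow_herbrand P hn hP1.1 e (by omega)
  rw [show n - e = f by omega] at hPfin hP0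
  have h2 := herbrand_two (P ^ e) (P ^ f) W₁ W₂ (hinj _ _ hW₁') (hinj _ _ hW₂') hperP (hcomm _ _ _ _ hW₁' (hPk e))
    (hcomm _ _ _ _ hW₂' (hPk f)) hPfin cc cd
  have e1 : wa ∘ₗ φ = W₁ ∘ₗ (P ^ e) := LinearMap.ext fun z => hι (by
    rw [LinearMap.comp_apply, LinearMap.comp_apply, hwa, hφ, hW₁', hPk, smul_smul, smul_smul, pow_succ, Units.val_mul,
      Units.val_mul]
    congr 1
    ring)
  have e2 : wb ∘ₗ ψ = W₂ ∘ₗ (P ^ f) := LinearMap.ext fun z => hι (by
    rw [LinearMap.comp_apply, LinearMap.comp_apply, hwb, hψ, hW₂', hPk, smul_smul, smul_smul, pow_succ, Units.val_mul,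
      Units.val_mul]
    congr 1
    ring)
  rw [e1, e2, h2, hP0, ea, eb, ec, ed] at h1
  have hsu := TameLib.residue_unit_ne_zero su
  simp only [Units.val_pow_eq_pow_val, Units.val_mul, map_pow, map_mul, ordN_pow q hsu,
    ordN_mul q hsu (TameLib.residue_unit_ne_zero u), ordN_mul q hsu (TameLib.residue_unit_ne_zero v),
    Nat.cast_mul, Nat.cast_add, Nat.cast_one] at h1
  linear_combination -h1

end main

end Groth.Agent.TameKey
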